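import Cfsg.Agent.Lib.Blocks.Dihedral.Setup
import Cfsg.Agent.Lib.DihedralShape
import Cfsg.Agent.Lib.CharTheory.Irr

/-!
# Pairs of involutions in the centraliser of the central involution
-/

namespace CfsgLib.Blocks.Dihedral

open Cfsg CfsgLib.CharTheory

set_option linter.unusedVariables false
set_option linter.unusedSectionVars false
set_option linter.style.haveILetI false

universe u

variable {G : Type u} [Group G] [Finite G]

/-- The hypotheses with an explicit reflection. -/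
structure DihPair (P : Sylow 2 G) (σ τ : G) (h : ℕ) : Prop extends Dih P σ h where
  tmem : τ ∈ (P : Subgroup G)
  tnot : τ ∉ Subgroup.zpowers σ

variable {P : Sylow 2 G} {σ τ : G} {h : ℕ}

theorem mem_or_mem {σ τ : G} (ht : τ * τ = 1) (hrel : τ * σ * τ⁻¹ = σ⁻¹) {x : G}
    (hx : x ∈ Subgroup.closure ({σ, τ} : Set G)) :
    x ∈ Subgroup.zpowers σ ∨ x * τ ∈ Subgroup.zpowers σ := by
  have ht' : τ⁻¹ = τ := inv_eq_of_mul_eq_one_left ht
  have hflip : ∀ {r : G}, r ∈ Subgroup.zpowers σ → τ * r * τ ∈ Subgroup.zpowers σ := by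
    rintro r ⟨t, rfl⟩
    show τ * σ ^ t * τ ∈ _
    nth_rewrite 2 [← ht']
    rw [← conj_zpow, hrel]
    exact zpow_mem (inv_mem (Subgroup.mem_zpowers σ)) t
  induction hx using Subgroup.closure_induction with
  | mem y hy =>
    rcases hy with rfl | hy
    · exact Or.inl (Subgroup.mem_zpowers _)
    · rw [Set.mem_singleton_iff.1 hy, ht]
      exact Or.inr (one_mem _)
  | one => exact Or.inl (one_mem _)
  | mul a b _ _ ha hb =>
    rcases ha with ha | ha
    · rcases hb with hb | hb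
      · exact Or.inl (mul_mem ha hb)
      · exact Or.inr (by rw [mul_assoc]; exact mul_mem ha hb)
    · rcases hb with hb | hb
      · refine Or.inr ?_
        have : a * b * τ = a * τ * (τ * b * τ) := by
          rw [show a * τ * (τ * b * τ) = a * (τ * τ) * b * τ by group, ht, mul_one]
        rw [this]
        exact mul_mem ha (hflip hb)
      · refine Or.inl ?_
        have : a * b = a * τ * (τ * (b * τ) * τ) := by
          rw [show a * τ * (τ * (b * τ) * τ) = a * (τ * τ) * b * (τ * τ) by group, ht, mul_one,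
            mul_one]
        rw [this]
        exact mul_mem ha (hflip hb)
  | inv a _ ha =>
    rcases ha with ha | ha
    · exact Or.inl (inv_mem ha)
    · refine Or.inr ?_
      have := hflip (inv_mem ha)
      rwa [mul_inv_rev, ht', ← mul_assoc, ht, one_mul] at this

theorem DihPair.of_gen (hpow : ∃ a : ℕ, h = 2 ^ (a + 1)) (hσ : σ ∈ (P : Subgroup G))
    (hτ : τ ∈ (P : Subgroup G)) (hσo : orderOf σ = 2 * h) (hτo : orderOf τ = 2)
    (hrel : τ * σ * τ⁻¹ = σ⁻¹) (hgen : Subgroup.closure ({σ, τ} : Set G) = (P : Subgroup G)) :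
    DihPair P σ τ h := by
  classical
  haveI : Fact (Nat.Prime 2) := ⟨Nat.prime_two⟩
  have h2 : 2 ≤ h := by
    obtain ⟨a, rfl⟩ := hpow
    exact Nat.le_self_pow (by omega) 2
  have ht : τ * τ = 1 := by rw [← pow_two, ← hτo, pow_orderOf_eq_one]
  have htn : τ ∉ Subgroup.zpowers σ := by
    rintro ⟨t, e⟩
    have hc : Commute τ σ := e ▸ (Commute.zpow_self σ t)
    rw [hc.eq, mul_inv_cancel_right] at hrel
    have := Nat.le_of_dvd (by norm_num) (orderOf_dvd_of_pow_eq_one (x := σ) (n := 2)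
      (by rw [sq]; exact mul_eq_one_iff_eq_inv.2 hrel))
    omega
  have hle : Subgroup.zpowers σ ≤ (P : Subgroup G) := Subgroup.zpowers_le.2 hσ
  have hupper : Nat.card P ≤ 2 * (2 * h) := by
    let f : Bool × Subgroup.zpowers σ → (P : Subgroup G) := fun x => ⟨if x.1 then x.2 else x.2 * τ,
      by
        by_cases hx : x.1 = true
        · rw [if_pos hx]; exact hle x.2.2
        · rw [if_neg hx]; exact mul_mem (hle x.2.2) hτ⟩
    have hf : Function.Surjective f := fun y => by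
      rcases mem_or_mem ht hrel (hgen.symm ▸ y.2 : (y : G) ∈ _) with e | e
      · exact ⟨(true, ⟨y, e⟩), rfl⟩
      · refine ⟨(false, ⟨y * τ, e⟩), Subtype.ext ?_⟩
        show (y : G) * τ * τ = y
        rw [mul_assoc, ht, mul_one]
    have := Nat.card_le_card_of_surjective f hf
    rwa [Nat.card_prod, Nat.card_zpowers, hσo, Nat.card_eq_fintype_card (α := Bool),
      Fintype.card_bool] at this
  have hlower : 2 * (2 * h) ≤ Nat.card P := by
    have h1 := Subgroup.card_dvd_of_le hle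
    rw [Nat.card_zpowers, hσo] at h1
    obtain ⟨q, hq⟩ := h1
    rcases q with _ | _ | q
    · rw [mul_zero] at hq; have := Nat.card_pos (α := (P : Subgroup G)); omega
    · exfalso
      exact htn ((Subgroup.eq_of_le_of_card_ge hle (by rw [hq, Nat.card_zpowers, hσo]; omega)).ge hτ)
    · rw [hq]; nlinarith
  have hiso := DihedralShape.equiv_dihedral (H := (P : Subgroup G)) (c := ⟨σ, hσ⟩) (t := ⟨τ, hτ⟩)
    (n := 2 * h) (by rw [Subgroup.orderOf_mk, hσo]) (le_antisymm hupper hlower) (Subtype.ext ht)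
    (fun ⟨t, e⟩ => htn ⟨t, congrArg Subtype.val e⟩) (Subtype.ext hrel)
  exact { hpow := hpow, iso := hiso, mem := hσ, ord := hσo, tmem := hτ, tnot := htn }

theorem DihPair.tinv (hh : DihPair P σ τ h) : τ * τ = 1 ∧ τ * σ * τ⁻¹ = σ⁻¹ :=
  hh.toDih.out hh.tmem hh.tnot

theorem DihPair.exists_pow (hh : DihPair P σ τ h) {x : G} (hx : x ∈ Subgroup.zpowers σ) :
    ∃ m < 2 * h, x = σ ^ m := by
  obtain ⟨m, rfl⟩ := (IsOfFinOrder.mem_powers_iff_mem_zpowers (isOfFinOrder_of_finite σ)).2 hx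
  exact ⟨m % (2 * h), Nat.mod_lt _ (by have := hh.toDih.two_le; omega), by
    rw [← hh.ord, pow_mod_orderOf]⟩

theorem DihPair.refl_pow (hh : DihPair P σ τ h) (m : ℕ) : τ * σ ^ m = (σ ^ m)⁻¹ * τ := by
  rw [← mul_inv_eq_iff_eq_mul, ← conj_pow, hh.tinv.2, inv_pow]

theorem DihPair.shape (hh : DihPair P σ τ h) {x : G} (hx : x ∈ (P : Subgroup G)) :
    (∃ m < 2 * h, x = σ ^ m) ∨ ∃ m < 2 * h, x = σ ^ m * τ := by
  by_cases hn : x ∈ Subgroup.zpowers σ
  · exact Or.inl (hh.exists_pow hn)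
  · right
    have hmem : x * τ ∈ Subgroup.zpowers σ := by
      by_contra hc
      have i1 := hh.toDih.invert hx hn (Subgroup.mem_zpowers σ)
      have i2 := hh.tinv.2
      have i3 := hh.toDih.invert (mul_mem hx hh.tmem) hc (Subgroup.mem_zpowers σ)
      rw [show x * τ * σ * (x * τ)⁻¹ = x * (τ * σ * τ⁻¹) * x⁻¹ by group, i2,
        show x * σ⁻¹ * x⁻¹ = (x * σ * x⁻¹)⁻¹ by group, i1, inv_inv] at i3
      have := Nat.le_of_dvd (by norm_num) (orderOf_dvd_of_pow_eq_one (x := σ) (n := 2)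
        (by rw [sq]; exact mul_eq_one_iff_eq_inv.2 i3))
      rw [hh.ord] at this
      have := hh.toDih.two_le
      omega
    obtain ⟨m, hm, e⟩ := hh.exists_pow hmem
    exact ⟨m, hm, by rw [← e, mul_assoc, hh.tinv.1, mul_one]⟩

theorem DihPair.refl_not (hh : DihPair P σ τ h) (m : ℕ) : σ ^ m * τ ∉ Subgroup.zpowers σ :=
  fun e => hh.tnot (by
    simpa using mul_mem (inv_mem (Subgroup.npow_mem_zpowers σ m)) e)

theorem DihPair.refl_mem (hh : DihPair P σ τ h) (m : ℕ) : σ ^ m * τ ∈ (P : Subgroup G) :=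
  mul_mem (pow_mem hh.mem m) hh.tmem

/-- The odd normal subgroup of the centraliser of the central involution. -/
structure Core (P : Sylow 2 G) (z : G) (K : Subgroup G) : Prop where
  comm : ∀ k ∈ K, Commute k z
  odd : ¬ 2 ∣ Nat.card K
  norm : ∀ c : G, Commute c z → ∀ k ∈ K, c * k * c⁻¹ ∈ K
  dec : ∀ g : G, Commute g z → ∃ k ∈ K, ∃ p ∈ (P : Subgroup G), g = k * p
  card : Nat.card (Subgroup.centralizer ({z} : Set G)) = Nat.card P * Nat.card K

theorem Dih.exists_core (hh : Dih P σ h) : ∃ K : Subgroup G, Core P (σ ^ h) K := by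
  classical
  haveI : Fact (Nat.Prime 2) := ⟨Nat.prime_two⟩
  obtain ⟨K, hKn, hK, hidx⟩ := hh.complement_z
  haveI := hKn
  have hmem : ∀ {x : G}, x ∈ Subgroup.centralizer ({σ ^ h} : Set G) ↔ Commute x (σ ^ h) :=
    fun {x} => Subgroup.mem_centralizer_singleton_iff
  have hPC : (P : Subgroup G) ≤ Subgroup.centralizer ({σ ^ h} : Set G) := fun x hx =>
    hmem.2 (hh.z_central hx)
  have hcard : Nat.card ((P : Subgroup G).subgroupOf (Subgroup.centralizer ({σ ^ h} : Set G))) =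
      K.index := by
    rw [hidx, Nat.card_congr (Subgroup.subgroupOfEquivOfLe hPC).toEquiv, hh.card]
  have hcompl : K.IsComplement' ((P : Subgroup G).subgroupOf
      (Subgroup.centralizer ({σ ^ h} : Set G))) := by
    refine Subgroup.isComplement'_of_coprime (by rw [hcard, Subgroup.card_mul_index]) ?_
    rw [hcard, hidx]
    obtain ⟨k, hk⟩ := hh.ord_pow
    rw [hk, ← pow_succ']
    exact Nat.Coprime.pow_right _ (Nat.coprime_comm.1 (Nat.prime_two.coprime_iff_not_dvd.2 hK))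
  refine ⟨K.map (Subgroup.centralizer ({σ ^ h} : Set G)).subtype, ⟨?_, ?_, ?_, ?_, ?_⟩⟩
  · rintro _ ⟨k, -, rfl⟩
    exact hmem.1 k.2
  · rwa [Subgroup.card_map_of_injective Subtype.val_injective]
  · rintro c hc _ ⟨k, hk, rfl⟩
    exact ⟨_, hKn.conj_mem k hk ⟨c, hmem.2 hc⟩, rfl⟩
  · intro g hg
    obtain ⟨⟨⟨k, hk⟩, ⟨p, hp⟩⟩, e⟩ := hcompl.2 ⟨g, hmem.2 hg⟩
    exact ⟨_, ⟨k, hk, rfl⟩, (p : G), hp, (congrArg Subtype.val e).symm⟩
  · rw [Subgroup.card_map_of_injective Subtype.val_injective, ← K.card_mul_index, hidx, hh.card,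
      mul_comm]

theorem Core.uniq {z : G} {K : Subgroup G} (hK : Core P z K) {k k' p p' : G} (hk : k ∈ K)
    (hk' : k' ∈ K) (hp : p ∈ (P : Subgroup G)) (hp' : p' ∈ (P : Subgroup G))
    (e : k * p = k' * p') : k = k' ∧ p = p' := by
  haveI : Fact (Nat.Prime 2) := ⟨Nat.prime_two⟩
  have h1 : k'⁻¹ * k = p' * p⁻¹ := by
    rw [inv_mul_eq_iff_eq_mul, ← mul_assoc, ← e, mul_inv_cancel_right]
  have hx : p' * p⁻¹ ∈ (P : Subgroup G) := mul_mem hp' (inv_mem hp)
  obtain ⟨j, hj⟩ := IsPGroup.iff_orderOf.1 P.2 ⟨_, hx⟩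
  rw [Subgroup.orderOf_mk] at hj
  have h2 : orderOf (p' * p⁻¹) ∣ Nat.card K :=
    Subgroup.orderOf_dvd_natCard K (h1 ▸ mul_mem (inv_mem hk') hk)
  have h3 : orderOf (p' * p⁻¹) = 1 := Nat.eq_one_of_dvd_coprimes
    ((Nat.prime_two.coprime_iff_not_dvd.2 hK.odd).pow_left j) (dvd_of_eq hj) h2
  rw [orderOf_eq_one_iff] at h3
  rw [h3] at h1
  exact ⟨(inv_mul_eq_one.1 h1).symm, (mul_inv_eq_one.1 h3).symm⟩

/-- The involutions of the coset `K σ^m τ`, as elements of `K`. -/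
noncomputable def inv' (K : Subgroup G) (σ τ : G) (m : ℕ) : Finset G :=
  (Set.toFinite {k : G | k ∈ K ∧ k * (σ ^ m * τ) * (k * (σ ^ m * τ)) = 1}).toFinset

theorem mem_inv' {K : Subgroup G} {m : ℕ} {k : G} :
    k ∈ inv' K σ τ m ↔ k ∈ K ∧ k * (σ ^ m * τ) * (k * (σ ^ m * τ)) = 1 := by simp [inv']

theorem DihPair.comm_z (hh : DihPair P σ τ h) (m : ℕ) : Commute (σ ^ m * τ) (σ ^ h) :=
  hh.toDih.z_central (hh.refl_mem m)

theorem DihPair.inv_add_two (hh : DihPair P σ τ h) {K : Subgroup G} (hK : Core P (σ ^ h) K)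
    (m : ℕ) : (inv' K σ τ (m + 2)).card = (inv' K σ τ m).card := by
  have hd : σ * (σ ^ m * τ) * σ⁻¹ = σ ^ (m + 2) * τ := by
    have e := hh.refl_pow 1
    rw [pow_one] at e
    have e' : τ * σ⁻¹ = σ * τ := by
      rw [mul_inv_eq_iff_eq_mul, mul_assoc, e, mul_inv_cancel_left]
    rw [mul_assoc, mul_assoc, e', ← mul_assoc, ← mul_assoc, pow_succ, pow_succ, ← pow_succ']
    rw [pow_succ]
  have hz : Commute σ (σ ^ h) := Commute.self_pow σ h
  symm
  refine Finset.card_bij (fun k _ => σ * k * σ⁻¹) (fun k hk => ?_)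
    (fun a _ b _ e => mul_left_cancel (mul_right_cancel e)) (fun b hb => ?_)
  · obtain ⟨h1, h2⟩ := mem_inv'.1 hk
    refine mem_inv'.2 ⟨hK.norm σ hz k h1, ?_⟩
    rw [← hd, show σ * k * σ⁻¹ * (σ * (σ ^ m * τ) * σ⁻¹) * (σ * k * σ⁻¹ * (σ * (σ ^ m * τ) * σ⁻¹)) =
      σ * (k * (σ ^ m * τ) * (k * (σ ^ m * τ))) * σ⁻¹ by group, h2]
    group
  · obtain ⟨h1, h2⟩ := mem_inv'.1 hb
    refine ⟨σ⁻¹ * b * σ, mem_inv'.2 ⟨?_, ?_⟩, by group⟩
    · have := hK.norm σ⁻¹ hz.inv_left b h1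
      rwa [inv_inv] at this
    · rw [← hd] at h2
      rw [show σ⁻¹ * b * σ * (σ ^ m * τ) * (σ⁻¹ * b * σ * (σ ^ m * τ)) =
        σ⁻¹ * (b * (σ * (σ ^ m * τ) * σ⁻¹) * (b * (σ * (σ ^ m * τ) * σ⁻¹))) * σ by group, h2]
      group

theorem DihPair.inv_parity (hh : DihPair P σ τ h) {K : Subgroup G} (hK : Core P (σ ^ h) K)
    (m : ℕ) : (inv' K σ τ m).card = (inv' K σ τ (m % 2)).card := by
  induction m using Nat.twoStepInduction with
  | zero => rfl
  | one => rfl
  | more m ih _ => rw [hh.inv_add_two hK, ih, Nat.add_mod_right]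

theorem sum_parity (g : ℕ → ℕ) (q : ℕ) :
    ∑ m ∈ Finset.range (2 * q), g (m % 2) = q * (g 0 + g 1) := by
  induction q with
  | zero => simp
  | succ q ih =>
    rw [show 2 * (q + 1) = 2 * q + 1 + 1 by ring, Finset.sum_range_succ, Finset.sum_range_succ, ih,
      show (2 * q) % 2 = 0 by omega, show (2 * q + 1) % 2 = 1 by omega]
    ring

/-- The non-central involutions commuting with `z`. -/
noncomputable def invs (z : G) : Finset G :=
  (Set.toFinite {x : G | x * x = 1 ∧ x ≠ 1 ∧ Commute x z ∧ x ≠ z}).toFinset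

theorem mem_invs {z x : G} : x ∈ invs z ↔ x * x = 1 ∧ x ≠ 1 ∧ Commute x z ∧ x ≠ z := by
  simp [invs]

theorem DihPair.invs_shape (hh : DihPair P σ τ h) {K : Subgroup G} (hK : Core P (σ ^ h) K) {x : G} :
    x ∈ invs (σ ^ h) ↔ ∃ m < 2 * h, ∃ k ∈ inv' K σ τ m, x = k * (σ ^ m * τ) := by
  constructor
  · intro hx
    obtain ⟨h1, h2, h3, h4⟩ := mem_invs.1 hx
    obtain ⟨k, hk, p, hp, rfl⟩ := hK.dec x h3
    have hpc : Commute p (σ ^ h) := hh.toDih.z_central hp
    have e := hK.uniq (mul_mem hk (hK.norm p hpc k hk)) (one_mem K) (mul_mem hp hp)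
      (one_mem (P : Subgroup G))
      (show k * (p * k * p⁻¹) * (p * p) = 1 * 1 by rw [one_mul]; rw [← h1]; group)
    rcases hh.shape hp with ⟨m, hm, rfl⟩ | ⟨m, hm, rfl⟩
    · exfalso
      have hkk : k * k = 1 := by
        have hc : σ ^ m = 1 ∨ σ ^ m = σ ^ h :=
          hh.toDih.sq_eq_one (Subgroup.npow_mem_zpowers σ m) e.2
        have := e.1
        rcases hc with hc | hc <;> rw [hc] at this
        · simpa using this
        · rwa [(hK.comm k hk).symm.eq, mul_inv_cancel_right] at this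
      have hk1 : k = 1 := orderOf_eq_one_iff.1 (Nat.eq_one_of_dvd_coprimes
        (Nat.prime_two.coprime_iff_not_dvd.2 hK.odd) (orderOf_dvd_of_pow_eq_one (by rw [sq, hkk]))
        (Subgroup.orderOf_dvd_natCard K hk))
      rw [hk1, one_mul] at h2 h4
      rcases hh.toDih.sq_eq_one (Subgroup.npow_mem_zpowers σ m) e.2 with hc | hc
      · exact h2 hc
      · exact h4 hc
    · exact ⟨m, hm, k, mem_inv'.2 ⟨hk, h1⟩, rfl⟩
  · rintro ⟨m, hm, k, hk, rfl⟩
    obtain ⟨h1, h2⟩ := mem_inv'.1 hk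
    refine mem_invs.2 ⟨h2, fun e => ?_, (hK.comm k h1).mul_left (hh.comm_z m), fun e => ?_⟩
    · have := (hK.uniq h1 (one_mem K) (hh.refl_mem m) (one_mem (P : Subgroup G))
        (e.trans (one_mul 1).symm)).2
      exact hh.refl_not m (this ▸ one_mem _)
    · have := (hK.uniq h1 (one_mem K) (hh.refl_mem m) (pow_mem hh.mem h)
        (e.trans (one_mul _).symm)).2
      exact hh.refl_not m (this ▸ Subgroup.npow_mem_zpowers σ h)

theorem DihPair.pow_inj' (hh : DihPair P σ τ h) {l m : ℕ} (hl : l < 2 * h) (hm : m < 2 * h)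
    (e : σ ^ l * τ = σ ^ m * τ) : l = m :=
  pow_injOn_Iio_orderOf (by rw [Set.mem_Iio, hh.ord]; exact hl)
    (by rw [Set.mem_Iio, hh.ord]; exact hm) (mul_right_cancel e)

theorem DihPair.card_invs (hh : DihPair P σ τ h) {K : Subgroup G} (hK : Core P (σ ^ h) K) :
    (invs (σ ^ h)).card = h * ((inv' K σ τ 0).card + (inv' K σ τ 1).card) := by
  classical
  rw [← sum_parity (fun i => (inv' K σ τ i).card) h,
    ← Finset.sum_congr rfl fun m _ => hh.inv_parity hK m, ← Finset.card_sigma]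
  symm
  refine Finset.card_bij (fun a _ => a.2 * (σ ^ a.1 * τ)) (fun a ha => ?_) (fun a ha b hb e => ?_)
    (fun x hx => ?_)
  · obtain ⟨h1, h2⟩ := Finset.mem_sigma.1 ha
    exact (hh.invs_shape hK).2 ⟨a.1, Finset.mem_range.1 h1, a.2, h2, rfl⟩
  · obtain ⟨m, k⟩ := a
    obtain ⟨m', k'⟩ := b
    obtain ⟨h1, h2⟩ := Finset.mem_sigma.1 ha
    obtain ⟨h3, h4⟩ := Finset.mem_sigma.1 hb
    obtain ⟨e1, e2⟩ := hK.uniq (mem_inv'.1 h2).1 (mem_inv'.1 h4).1 (hh.refl_mem m) (hh.refl_mem m') e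
    have em : m = m' := hh.pow_inj' (Finset.mem_range.1 h1) (Finset.mem_range.1 h3) e2
    have ek : k = k' := e1
    subst em ek
    rfl
  · obtain ⟨m, hm, k, hk, rfl⟩ := (hh.invs_shape hK).1 hx
    exact ⟨⟨m, k⟩, Finset.mem_sigma.2 ⟨Finset.mem_range.2 hm, hk⟩, rfl⟩

/-- Pairs of involutions whose product lies in a given coset of `K`. -/
theorem DihPair.card_pairs (hh : DihPair P σ τ h) {K : Subgroup G} (hK : Core P (σ ^ h) K)
    (l : ℕ) [DecidableEq G] [DecidablePred (· ∈ K)] :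
    ((invs (σ ^ h) ×ˢ invs (σ ^ h)).filter fun x => x.1 * x.2 * (σ ^ l)⁻¹ ∈ K).card =
      ∑ m ∈ Finset.range (2 * h), (inv' K σ τ ((m + l) % 2)).card * (inv' K σ τ (m % 2)).card := by
  classical
  have hmod : ∀ j : ℕ, σ ^ (j % (2 * h)) = σ ^ j := fun j => by rw [← hh.ord, pow_mod_orderOf]
  rw [Finset.sum_congr rfl fun m _ => show
      (inv' K σ τ ((m + l) % 2)).card * (inv' K σ τ (m % 2)).card =
        (inv' K σ τ (m + l) ×ˢ inv' K σ τ m).card by
      rw [Finset.card_product, hh.inv_parity hK (m + l), hh.inv_parity hK m],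
    ← Finset.card_sigma]
  symm
  have key : ∀ (k₁ k₂ : G) (m' m : ℕ), k₁ * (σ ^ m' * τ) * (k₂ * (σ ^ m * τ)) =
      (k₁ * ((σ ^ m' * τ) * k₂ * (σ ^ m' * τ)⁻¹)) * ((σ ^ m' * τ) * (σ ^ m * τ)) := fun _ _ _ _ => by
    group
  have hdd : ∀ m : ℕ, σ ^ m * τ * (σ ^ m * τ) = 1 := fun m =>
    (hh.toDih.out (hh.refl_mem m) (hh.refl_not m)).1
  refine Finset.card_bij (fun a _ => (a.2.1 * (σ ^ (a.1 + l) * τ), a.2.2 * (σ ^ a.1 * τ)))
    (fun a ha => ?_) (fun a ha b hb e => ?_) (fun x hx => ?_)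
  · obtain ⟨m, k₁, k₂⟩ := a
    simp only [Finset.mem_sigma, Finset.mem_product, Finset.mem_range] at ha
    obtain ⟨hm, h1, h2⟩ := ha
    obtain ⟨a1, a2⟩ := mem_inv'.1 h1
    obtain ⟨b1, b2⟩ := mem_inv'.1 h2
    simp only [Finset.mem_filter, Finset.mem_product]
    refine ⟨⟨(hh.invs_shape hK).2 ⟨(m + l) % (2 * h), Nat.mod_lt _ (by omega), k₁, ?_, ?_⟩,
      (hh.invs_shape hK).2 ⟨m, hm, k₂, h2, rfl⟩⟩, ?_⟩
    · rw [mem_inv', hmod]; exact ⟨a1, a2⟩
    · rw [hmod]
    · rw [key, show σ ^ (m + l) * τ * (σ ^ m * τ) = σ ^ l by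
        rw [show σ ^ (m + l) * τ = σ ^ l * (σ ^ m * τ) by rw [← mul_assoc, ← pow_add, add_comm],
          mul_assoc, hdd, mul_one], mul_inv_cancel_right]
      exact mul_mem a1 (hK.norm _ (hh.comm_z _) _ b1)
  · obtain ⟨m, k₁, k₂⟩ := a
    obtain ⟨m', k₁', k₂'⟩ := b
    simp only [Finset.mem_sigma, Finset.mem_product, Finset.mem_range] at ha hb
    simp only [Prod.mk.injEq] at e
    obtain ⟨e1, e2⟩ := hK.uniq (mem_inv'.1 ha.2.2).1 (mem_inv'.1 hb.2.2).1 (hh.refl_mem m)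
      (hh.refl_mem m') e.2
    obtain rfl := hh.pow_inj' ha.1 hb.1 e2
    rw [e1, mul_right_cancel e.1]
  · obtain ⟨x₁, x₂⟩ := x
    simp only [Finset.mem_filter, Finset.mem_product] at hx
    obtain ⟨⟨h1, h2⟩, h3⟩ := hx
    obtain ⟨m', hm', k₁, hk₁, rfl⟩ := (hh.invs_shape hK).1 h1
    obtain ⟨m, hm, k₂, hk₂, rfl⟩ := (hh.invs_shape hK).1 h2
    obtain ⟨a1, a2⟩ := mem_inv'.1 hk₁
    obtain ⟨b1, b2⟩ := mem_inv'.1 hk₂
    rw [key] at h3
    have e := (hK.uniq (mul_mem a1 (hK.norm _ (hh.comm_z m') _ b1)) h3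
      (mul_mem (hh.refl_mem m') (hh.refl_mem m)) (pow_mem hh.mem l)
      (by rw [inv_mul_cancel_right])).2
    have hd : σ ^ m' * τ = σ ^ (m + l) * τ := by
      have e' := congrArg (· * (σ ^ m * τ)) e
      simp only [mul_assoc] at e'
      rw [show σ ^ m * (τ * (σ ^ m * τ)) = 1 by simpa only [mul_assoc] using hdd m, mul_one] at e'
      rw [e', add_comm, pow_add, mul_assoc]
    refine ⟨⟨m, k₁, k₂⟩, Finset.mem_sigma.2 ⟨Finset.mem_range.2 hm, Finset.mem_product.2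
      ⟨mem_inv'.2 ⟨a1, hd ▸ a2⟩, hk₂⟩⟩, ?_⟩
    simp [hd]

/-- The two classes of non-central involutions. -/
theorem DihPair.card_invs_classes (hh : DihPair P σ τ h) {K : Subgroup G}
    (hK : Core P (σ ^ h) K) :
    ((invs (σ ^ h)).card : ℚ) = (Nat.card (Subgroup.centralizer ({σ ^ h} : Set G)) : ℚ) *
      (1 / (Nat.card (Subgroup.centralizer ({σ ^ h, τ} : Set G)) : ℚ) +
        1 / (Nat.card (Subgroup.centralizer ({σ ^ h, σ * τ} : Set G)) : ℚ)) := by
  classical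
  haveI := Fintype.ofFinite G
  let H : Subgroup G := Subgroup.centralizer ({σ ^ h} : Set G)
  have hmem : ∀ {x : G}, x ∈ H ↔ Commute x (σ ^ h) :=
    fun {x} => Subgroup.mem_centralizer_singleton_iff
  have hcl : ∀ d : H, (Nat.card {x : H // IsConj d x} : ℚ) = (Nat.card H : ℚ) *
      (1 / (Nat.card (Subgroup.centralizer ({σ ^ h, (d : G)} : Set G)) : ℚ)) := by
    intro d
    have e : Nat.card (Subgroup.centralizer ({d} : Set H)) =
        Nat.card (Subgroup.centralizer ({σ ^ h, (d : G)} : Set G)) := by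
      refine Nat.card_congr
        { toFun := fun x => ⟨((x : H) : G), ?_⟩
          invFun := fun y => ⟨⟨(y : G), ?_⟩, ?_⟩
          left_inv := fun x => rfl
          right_inv := fun y => rfl }
      · refine Subgroup.mem_centralizer_iff.2 fun y hy => ?_
        rcases hy with rfl | rfl
        · exact (hmem.1 (x : H).2).eq.symm
        · exact (congrArg Subtype.val (Subgroup.mem_centralizer_singleton_iff.1 x.2)).symm
      · exact hmem.2 (Subgroup.mem_centralizer_iff.1 y.2 _ (Set.mem_insert _ _)).symm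
      · exact Subgroup.mem_centralizer_singleton_iff.2 (Subtype.ext
          (Subgroup.mem_centralizer_iff.1 y.2 _ (Set.mem_insert_of_mem _ rfl)).symm)
    rw [← card_isConj_mul_card_centralizer d, ← e, Nat.cast_mul, one_div,
      mul_inv_cancel_right₀ (Nat.cast_ne_zero.2 Nat.card_pos.ne')]
  have ht : τ ∈ H := hmem.2 (hh.toDih.z_central hh.tmem)
  have hst : σ * τ ∈ H := hmem.2 (hh.toDih.z_central (mul_mem hh.mem hh.tmem))
  rw [mul_add, ← hcl ⟨τ, ht⟩, ← hcl ⟨σ * τ, hst⟩, Nat.card_eq_fintype_card,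
    Nat.card_eq_fintype_card, Fintype.card_subtype, Fintype.card_subtype, ← Nat.cast_add]
  have hstep : ∀ q : ℕ, ∀ x : G, σ ^ q * (x * τ) * (σ ^ q)⁻¹ = σ ^ q * x * σ ^ q * τ := by
    intro q x
    have : τ * (σ ^ q)⁻¹ = σ ^ q * τ := by
      rw [mul_inv_eq_iff_eq_mul, mul_assoc, hh.refl_pow, mul_inv_cancel_left]
    rw [mul_assoc, mul_assoc, this]; simp only [mul_assoc]
  have hin : ∀ d : H, (d : G) ∈ invs (σ ^ h) → ∀ x : H, IsConj d x → (x : G) ∈ invs (σ ^ h) := by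
    intro d hd x hx
    obtain ⟨h1, h2, h3, h4⟩ := mem_invs.1 hd
    obtain ⟨c, hc⟩ := isConj_iff.1 hx
    have hc' : (c : G) * d * (c : G)⁻¹ = x := congrArg Subtype.val hc
    have hcz : (c : G)⁻¹ * σ ^ h * c = σ ^ h := by
      rw [mul_assoc, ← (hmem.1 c.2).eq, inv_mul_cancel_left]
    refine mem_invs.2 ⟨?_, fun e => ?_, hmem.1 x.2, fun e => ?_⟩
    · rw [← hc', show (c : G) * d * (c : G)⁻¹ * (c * d * (c : G)⁻¹) = c * ((d : G) * d) * (c : G)⁻¹ by
        group, h1]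
      group
    · exact h2 (conj_eq_one_iff.1 (hc'.trans e))
    · refine h4 ?_
      rw [← hcz, ← e, ← hc']
      group
  have hinv : ∀ m, σ ^ m * τ ∈ invs (σ ^ h) := fun m => by
    refine mem_invs.2 ⟨(hh.toDih.out (hh.refl_mem m) (hh.refl_not m)).1,
      fun e => hh.refl_not m (e ▸ one_mem _), hh.comm_z m,
      fun e => hh.refl_not m (e ▸ Subgroup.npow_mem_zpowers σ h)⟩
  congr 1
  rw [← Finset.card_union_of_disjoint, ← Finset.card_map (Function.Embedding.subtype _)]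
  · congr 1
    ext x
    simp only [Finset.mem_map, Finset.mem_union, Finset.mem_filter, Finset.mem_univ, true_and,
      Function.Embedding.coe_subtype]
    constructor
    · intro hx
      obtain ⟨m, hm, k, hk, rfl⟩ := (hh.invs_shape hK).1 hx
      obtain ⟨hk1, hk2⟩ := mem_inv'.1 hk
      refine ⟨⟨_, hmem.2 (mem_invs.1 hx).2.2.1⟩, ?_, rfl⟩
      -- a square root of `k` conjugates the reflection onto the involution
      obtain ⟨j, hj⟩ : Odd (orderOf k) := Nat.not_even_iff_odd.1 fun he =>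
        hK.odd ((even_iff_two_dvd.1 he).trans (Subgroup.orderOf_dvd_natCard K hk1))
      have hdk : σ ^ m * τ * k * (σ ^ m * τ)⁻¹ = k⁻¹ := by
        refine eq_inv_of_mul_eq_one_right ?_
        rw [inv_eq_of_mul_eq_one_right (hh.toDih.out (hh.refl_mem m) (hh.refl_not m)).1]
        simpa only [mul_assoc] using hk2
      have hr : k ^ (j + 1) * (σ ^ m * τ) * (k ^ (j + 1))⁻¹ = k * (σ ^ m * τ) := by
        have e : σ ^ m * τ * (k ^ (j + 1))⁻¹ = k ^ (j + 1) * (σ ^ m * τ) := by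
          rw [← mul_inv_eq_iff_eq_mul, ← inv_pow, ← conj_pow,
            show σ ^ m * τ * k⁻¹ * (σ ^ m * τ)⁻¹ = (σ ^ m * τ * k * (σ ^ m * τ)⁻¹)⁻¹ by group,
            hdk, inv_inv]
        rw [mul_assoc, e, ← mul_assoc, ← pow_add,
          show j + 1 + (j + 1) = orderOf k + 1 by omega, pow_succ, pow_orderOf_eq_one, one_mul]
      have hcr : Commute (k ^ (j + 1)) (σ ^ h) := (hK.comm k hk1).pow_left _
      obtain ⟨q, hq | hq⟩ : ∃ q, m = q + q ∨ m = q + 1 + q := ⟨m / 2, by omega⟩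
      · left
        refine isConj_iff.2 ⟨⟨k ^ (j + 1) * σ ^ q,
          hmem.2 (hcr.mul_left (Commute.pow_pow_self σ q h))⟩, Subtype.ext ?_⟩
        show k ^ (j + 1) * σ ^ q * τ * (k ^ (j + 1) * σ ^ q)⁻¹ = k * (σ ^ m * τ)
        have := hstep q 1
        rw [one_mul, mul_one, ← pow_add] at this
        rw [← hr, hq, ← this]
        group
      · right
        refine isConj_iff.2 ⟨⟨k ^ (j + 1) * σ ^ q,
          hmem.2 (hcr.mul_left (Commute.pow_pow_self σ q h))⟩, Subtype.ext ?_⟩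
        show k ^ (j + 1) * σ ^ q * (σ * τ) * (k ^ (j + 1) * σ ^ q)⁻¹ = k * (σ ^ m * τ)
        have := hstep q σ
        rw [← pow_succ, ← pow_add] at this
        rw [← hr, hq, ← this]
        group
    · rintro ⟨y, hy | hy, rfl⟩
      · exact hin ⟨τ, ht⟩ (by simpa using hinv 0) y hy
      · exact hin ⟨σ * τ, hst⟩ (by simpa using hinv 1) y hy
  · rw [Finset.disjoint_left]
    intro x hx hx'
    obtain ⟨c, hc⟩ := isConj_iff.1 ((Finset.mem_filter.1 hx).2.trans (Finset.mem_filter.1 hx').2.symm)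
    obtain ⟨k, hk, p, hp, hcp⟩ := hK.dec (c : G) (hmem.1 c.2)
    have hc' : (c : G) * τ * (c : G)⁻¹ = σ * τ := congrArg Subtype.val hc
    rw [hcp] at hc'
    have hX : p * τ * p⁻¹ ∈ (P : Subgroup G) := mul_mem (mul_mem hp hh.tmem) (inv_mem hp)
    have hXz := hh.toDih.z_central hX
    have e := (hK.uniq (mul_mem hk (hK.norm _ hXz k⁻¹ (inv_mem hk))) (one_mem K) hX
      (mul_mem hh.mem hh.tmem) (by rw [one_mul, ← hc']; group)).2
    have ht' := hh.tinv.1
    have : ∃ a : ℕ, σ ^ a * τ * (σ ^ a)⁻¹ = σ * τ := by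
      rcases hh.shape hp with ⟨a, -, rfl⟩ | ⟨a, -, rfl⟩
      · exact ⟨a, e⟩
      · refine ⟨a, ?_⟩
        rw [← e]
        group
    obtain ⟨a, ha⟩ := this
    have := hstep a 1
    rw [one_mul, mul_one, ← pow_add, ha] at this
    have h' := mul_right_cancel this
    have h'' : σ ^ 1 = σ ^ (a + a) := by rwa [pow_one]
    rw [pow_eq_pow_iff_modEq, hh.ord] at h''
    have h2' : 1 ≡ a + a [MOD 2] := h''.of_dvd (dvd_mul_right 2 h)
    unfold Nat.ModEq at h2'
    omega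

end CfsgLib.Blocks.Dihedral
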