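import Cfsg.Agent.Lib.Blocks.Dihedral.Main
import Cfsg.Agent.Lib.Blocks.Dihedral.Count
import Cfsg.Agent.Lib.Blocks.DefectZeroCount

/-!
# The order formula for one class of involutions
-/

namespace CfsgLib.Blocks.Dihedral

open Cfsg CfsgLib.CharTheory CfsgLib.Blocks.AbelianFree
open scoped ComplexConjugate

set_option linter.unusedVariables false
set_option linter.unusedSectionVars false
set_option linter.style.haveILetI false

universe u

variable {G : Type u} [Group G] [Fintype G] {P : Sylow 2 G} {σ τ : G} {h : ℕ} {M : Ideal AlgInt}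

theorem sum_W {ζ : ℂ} (hζ : IsPrimitiveRoot ζ (2 * h)) {l : ℕ} (hl0 : 0 < l) (hl : l < 2 * h) :
    1 + ∑ j : Fin (h - 1), ((ζ ^ ((j : ℕ) + 1)) ^ l + ((ζ ^ ((j : ℕ) + 1)) ^ l)⁻¹) =
      (-1 : ℂ) ^ (l + 1) := by
  obtain ⟨M', hM'⟩ : ∃ M', h = M' + 1 := ⟨h - 1, by omega⟩
  have hM1 : M' = h - 1 := by omega
  have h0 : ∑ i ∈ Finset.range (2 * h), (ζ ^ l) ^ i = 0 := by
    rw [root_sum hζ, if_neg fun e => by have := Nat.le_of_dvd hl0 e; omega]
  rw [hM', sum_range_split, pow_zero, ← hM'] at h0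
  have hhalf : ζ ^ h = -1 := IsPrimitiveRoot.eq_neg_one_of_two_right
    (hζ.pow (by omega) (mul_comm 2 h))
  have e1 : (ζ ^ l) ^ h = (-1) ^ l := by rw [← pow_mul, mul_comm, pow_mul, hhalf]
  have e2 : ∀ j : ℕ, j < h - 1 → (ζ ^ l) ^ (j + 1) + (ζ ^ l) ^ (2 * h - (j + 1)) =
      (ζ ^ (j + 1)) ^ l + ((ζ ^ (j + 1)) ^ l)⁻¹ := fun j hj => by
    rw [inv_pow_eq hζ (by omega) (by omega), ← pow_mul, ← pow_mul, ← pow_mul, ← pow_mul,
      mul_comm l, mul_comm l]
  rw [e1, hM1, Finset.sum_congr rfl fun j hj => e2 j (Finset.mem_range.1 hj),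
    Finset.sum_range] at h0
  rw [pow_succ]
  linear_combination h0

/-- The sum of a character over the coset `K y`. -/
theorem coset_sum (hM : IsPModular 2 M) {z : G} {K : Subgroup G} (hK : Core P z K)
    [DecidablePred (· ∈ K)] [DecidableEq G] {y : G} (hyz : Commute y z)
    (hy : ∃ k, orderOf y = 2 ^ k) (hcz : ∀ x : G, Commute x y → Commute x z)
    {Ky : Subgroup (Subgroup.centralizer ({y} : Set G))} (hKy : Ky.Normal) (hKo : ¬ 2 ∣ Nat.card Ky)
    {k : ℕ} (hidx : Ky.index = 2 ^ k) (χ : IrrCharacter G) :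
    ∑ g ∈ Finset.univ.filter (fun g => g * y⁻¹ ∈ K), (χ : G → ℂ) g =
      (Nat.card K : ℂ) * (ind (principalBlock M G) χ * (χ : G → ℂ) y) := by
  haveI := hKy
  haveI : Fact (Nat.Prime 2) := ⟨Nat.prime_two⟩
  have hV : ∀ v, v ∈ regC 2 y ↔ v ∈ K ∧ Commute v y := by
    intro v
    rw [mem_regC]
    constructor
    · rintro ⟨hc, hv⟩
      obtain ⟨a, ha, p, hp, e⟩ := hK.dec v (hcz v hc)
      refine ⟨?_, hc⟩
      -- the odd order element lies in the odd normal subgroup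
      have hKn : ∀ j : ℕ, ∃ b ∈ K, v ^ j = b * p ^ j := by
        intro j
        induction j with
        | zero => exact ⟨1, one_mem K, by simp⟩
        | succ j ih =>
          obtain ⟨b, hb, hbj⟩ := ih
          have hpz : Commute (p ^ j) z := by
            have : Commute p z := by
              have h1 : p = a⁻¹ * v := by rw [e, inv_mul_cancel_left]
              rw [h1]
              exact (hK.comm a ha).inv_left.mul_left (hcz v hc)
            exact this.pow_left j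
          refine ⟨b * (p ^ j * a * (p ^ j)⁻¹), mul_mem hb (hK.norm _ hpz a ha), ?_⟩
          rw [pow_succ, hbj, e, pow_succ]
          group
      obtain ⟨b, hb, hbv⟩ := hKn (orderOf v)
      rw [pow_orderOf_eq_one] at hbv
      have hp1 : p ^ orderOf v = 1 := (hK.uniq hb (one_mem K) (pow_mem hp _) (one_mem _)
        (by rw [← hbv, one_mul])).2
      obtain ⟨j, hj⟩ := IsPGroup.iff_orderOf.1 P.2 ⟨p, hp⟩
      rw [Subgroup.orderOf_mk] at hj
      have : p = 1 := orderOf_eq_one_iff.1 (Nat.eq_one_of_dvd_coprimes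
        ((Nat.prime_two.coprime_iff_not_dvd.2 hv).pow_left j) (dvd_of_eq hj)
        (orderOf_dvd_of_pow_eq_one hp1))
      rw [e, this, mul_one]
      exact ha
    · rintro ⟨hv, hc⟩
      exact ⟨hc, fun hd => hK.odd (hd.trans (Subgroup.orderOf_dvd_natCard K hv))⟩
  set KF : Finset G := Finset.univ.filter (· ∈ K) with hKF
  set Ψ : G × G → G := fun a => a.1 * (y * a.2) * a.1⁻¹ with hΨ
  set T := Finset.univ.filter (fun g => g * y⁻¹ ∈ K) with hT
  have hKFc : KF.card = Nat.card K := by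
    rw [hKF, Nat.card_eq_fintype_card, Fintype.card_subtype]
  have hTc : T.card = Nat.card K := by
    rw [← hKFc]
    refine Finset.card_bij (fun g _ => g * y⁻¹) (fun g hg => ?_) (fun a _ b _ e => mul_right_cancel e)
      fun b hb => ⟨b * y, ?_, by group⟩
    · simpa [hKF, hT] using hg
    · simpa [hKF, hT] using hb
  have hmap : ∀ a ∈ KF ×ˢ regC 2 y, Ψ a ∈ T := by
    intro a ha
    obtain ⟨h1, h2⟩ := Finset.mem_product.1 ha
    simp only [hKF, Finset.mem_filter, Finset.mem_univ, true_and] at h1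
    refine Finset.mem_filter.2 ⟨Finset.mem_univ _, ?_⟩
    show a.1 * (y * a.2) * a.1⁻¹ * y⁻¹ ∈ K
    rw [show a.1 * (y * a.2) * a.1⁻¹ * y⁻¹ = a.1 * (y * (a.2 * a.1⁻¹) * y⁻¹) by group]
    exact mul_mem h1 (hK.norm y hyz _ (mul_mem ((hV _).1 h2).1 (inv_mem h1)))
  have hfib : ∀ a ∈ KF ×ˢ regC 2 y,
      ((KF ×ˢ regC 2 y).filter fun b => Ψ b = Ψ a).card = (regC 2 y).card := by
    intro a ha
    obtain ⟨h1, h2⟩ := Finset.mem_product.1 ha
    simp only [hKF, Finset.mem_filter, Finset.mem_univ, true_and] at h1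
    obtain ⟨hv1, hv2⟩ := (hV _).1 h2
    symm
    refine Finset.card_bij (fun u _ => (a.1 * u, u⁻¹ * a.2 * u)) (fun u hu => ?_)
      (fun u _ w _ e => mul_left_cancel (congrArg Prod.fst e)) (fun b hb => ?_)
    · obtain ⟨hu1, hu2⟩ := (hV _).1 hu
      simp only [Finset.mem_filter, Finset.mem_product, hKF, Finset.mem_univ, true_and]
      refine ⟨⟨mul_mem h1 hu1, (hV _).2 ⟨mul_mem (mul_mem (inv_mem hu1) hv1) hu1,
        (hu2.inv_left.mul_left hv2).mul_left hu2⟩⟩, ?_⟩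
      show a.1 * u * (y * (u⁻¹ * a.2 * u)) * (a.1 * u)⁻¹ = a.1 * (y * a.2) * a.1⁻¹
      rw [show a.1 * u * (y * (u⁻¹ * a.2 * u)) * (a.1 * u)⁻¹ =
        a.1 * (u * y) * u⁻¹ * a.2 * a.1⁻¹ by group, hu2.eq]
      group
    · obtain ⟨hb1, hb2⟩ := Finset.mem_filter.1 hb
      obtain ⟨h3, h4⟩ := Finset.mem_product.1 hb1
      simp only [hKF, Finset.mem_filter, Finset.mem_univ, true_and] at h3
      obtain ⟨hw1, hw2⟩ := (hV _).1 h4
      have e : y * a.2 = (a.1⁻¹ * b.1) * y * (a.1⁻¹ * b.1)⁻¹ *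
          ((a.1⁻¹ * b.1) * b.2 * (a.1⁻¹ * b.1)⁻¹) := by
        have hb2' : b.1 * (y * b.2) * b.1⁻¹ = a.1 * (y * a.2) * a.1⁻¹ := hb2
        rw [show (a.1⁻¹ * b.1) * y * (a.1⁻¹ * b.1)⁻¹ * ((a.1⁻¹ * b.1) * b.2 * (a.1⁻¹ * b.1)⁻¹) =
          a.1⁻¹ * (b.1 * (y * b.2) * b.1⁻¹) * a.1 by group, hb2']
        group
      obtain ⟨e1, e2⟩ := pPart_unique Nat.prime_two hv2.symm
        ((Commute.conj_iff (a.1⁻¹ * b.1)).2 hw2.symm) hy
        (by obtain ⟨j, hj⟩ := hy; exact ⟨j, by rw [conj_orderOf, hj]⟩)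
        (mem_regC.1 h2).2 (by rw [conj_orderOf]; exact (mem_regC.1 h4).2) e
      have hu : Commute (a.1⁻¹ * b.1) y := mul_inv_eq_iff_eq_mul.1 e1.symm
      refine ⟨a.1⁻¹ * b.1, (hV _).2 ⟨mul_mem (inv_mem h1) h3, hu⟩, Prod.ext (by simp) ?_⟩
      show (a.1⁻¹ * b.1)⁻¹ * a.2 * (a.1⁻¹ * b.1) = b.2
      rw [e2]
      group
  have hfib' : ∀ g ∈ (KF ×ˢ regC 2 y).image Ψ,
      ((KF ×ˢ regC 2 y).filter fun b => Ψ b = g).card = (regC 2 y).card := by
    intro g hg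
    obtain ⟨a, ha, rfl⟩ := Finset.mem_image.1 hg
    exact hfib a ha
  have hVne : (regC 2 y).card ≠ 0 :=
    (Finset.card_pos.2 ⟨1, one_mem_regC Nat.prime_two y⟩).ne'
  have himg : (KF ×ˢ regC 2 y).image Ψ = T := by
    refine Finset.eq_of_subset_of_card_le (Finset.image_subset_iff.2 hmap) ?_
    have e := Finset.card_eq_sum_card_image Ψ (KF ×ˢ regC 2 y)
    rw [Finset.sum_congr rfl hfib', Finset.sum_const, smul_eq_mul, Finset.card_product] at e
    rw [hTc, ← hKFc]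
    exact le_of_eq (Nat.eq_of_mul_eq_mul_right (Nat.pos_of_ne_zero hVne) e)
  have h1 : ((regC 2 y).card : ℂ) * ∑ g ∈ T, (χ : G → ℂ) g =
      ((regC 2 y).card : ℂ) * ((Nat.card K : ℂ) * (ind (principalBlock M G) χ * (χ : G → ℂ) y)) := by
    have e : ∑ a ∈ KF ×ˢ regC 2 y, (χ : G → ℂ) (Ψ a) =
        ((regC 2 y).card : ℂ) * ∑ g ∈ T, (χ : G → ℂ) g := by
      rw [← himg, Finset.mul_sum, Finset.sum_comp]
      exact Finset.sum_congr rfl fun g hg => by rw [hfib' g hg, nsmul_eq_mul]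
    rw [← e, Finset.sum_product]
    have e' : ∀ a ∈ KF, ∑ v ∈ regC 2 y, (χ : G → ℂ) (Ψ (a, v)) =
        ∑ v ∈ regC 2 y, (χ : G → ℂ) (y * v) :=
      fun a _ => Finset.sum_congr rfl fun v _ => isClassFunction_irr χ.2 (y * v) a
    rw [Finset.sum_congr rfl e', Finset.sum_const, ← section_key hM hy Ky hKo hidx χ
      (one_mem_regC Nat.prime_two y), mul_one, nsmul_eq_mul, hKFc]
    ring
  exact mul_left_cancel₀ (Nat.cast_ne_zero.2 hVne) h1

theorem isConj_z (hh : DihPair P σ τ h) (hc : IsConj (σ ^ h) τ ∧ IsConj (σ ^ h) (σ * τ)) {a : G} :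
    IsConj (σ ^ h) a ↔ a * a = 1 ∧ a ≠ 1 := by
  haveI : Fact (Nat.Prime 2) := ⟨Nat.prime_two⟩
  constructor
  · intro e
    obtain ⟨c, rfl⟩ := isConj_iff.1 e
    obtain ⟨h1, h2⟩ := hh.toDih.z_ne
    refine ⟨?_, fun e' => h1 (conj_eq_one_iff.1 e')⟩
    rw [show c * σ ^ h * c⁻¹ * (c * σ ^ h * c⁻¹) = c * (σ ^ h * σ ^ h) * c⁻¹ by group, h2]
    group
  · rintro ⟨h1, h2⟩
    have hp : IsPGroup 2 (Subgroup.zpowers a) := by
      refine IsPGroup.of_card (n := 1) ?_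
      rw [Nat.card_zpowers, pow_one]
      exact orderOf_eq_prime (by rw [sq, h1]) h2
    obtain ⟨g, hg⟩ := DihedralFusion.exists_conj_le (S := P) hp
    have ha : g * a * g⁻¹ ∈ (P : Subgroup G) := hg ⟨a, Subgroup.mem_zpowers a, rfl⟩
    refine IsConj.trans ?_ (isConj_iff.2 ⟨g, rfl⟩ : IsConj a (g * a * g⁻¹)).symm
    have h1' : g * a * g⁻¹ * (g * a * g⁻¹) = 1 := by
      rw [show g * a * g⁻¹ * (g * a * g⁻¹) = g * (a * a) * g⁻¹ by group, h1]; group
    have h2' : g * a * g⁻¹ ≠ 1 := fun e => h2 (conj_eq_one_iff.1 e)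
    have hstep : ∀ q : ℕ, ∀ x : G, σ ^ q * (x * τ) * (σ ^ q)⁻¹ = σ ^ q * x * σ ^ q * τ := by
      intro q x
      have : τ * (σ ^ q)⁻¹ = σ ^ q * τ := by
        rw [mul_inv_eq_iff_eq_mul, mul_assoc, hh.refl_pow, mul_inv_cancel_left]
      rw [mul_assoc, mul_assoc, this]; simp only [mul_assoc]
    rcases hh.shape ha with ⟨m, hm, e⟩ | ⟨m, hm, e⟩
    · rw [e] at h1' h2' ⊢
      rw [(hh.toDih.sq_eq_one (Subgroup.npow_mem_zpowers σ m) h1').resolve_left h2']
    · rw [e]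
      obtain ⟨q, hq | hq⟩ : ∃ q, m = q + q ∨ m = q + 1 + q := ⟨m / 2, by omega⟩
      · refine hc.1.trans (isConj_iff.2 ⟨σ ^ q, ?_⟩)
        have := hstep q 1
        rw [one_mul, mul_one, ← pow_add] at this
        rw [this, hq]
      · refine hc.2.trans (isConj_iff.2 ⟨σ ^ q, ?_⟩)
        have := hstep q σ
        rw [← pow_succ, ← pow_add] at this
        rw [this, hq]

theorem sum_pairCount (hh : DihPair P σ τ h) (hc : IsConj (σ ^ h) τ ∧ IsConj (σ ^ h) (σ * τ))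
    {K : Subgroup G} (hK : Core P (σ ^ h) K) [DecidableEq G] [DecidablePred (· ∈ K)] {l : ℕ}
    (hl : l = 1 ∨ l = h) :
    ∑ g ∈ Finset.univ.filter (fun g => g * (σ ^ l)⁻¹ ∈ K), pairCount (σ ^ h) (σ ^ h) g =
      ((invs (σ ^ h) ×ˢ invs (σ ^ h)).filter fun x => x.1 * x.2 * (σ ^ l)⁻¹ ∈ K).card := by
  classical
  haveI : Fact (Nat.Prime 2) := ⟨Nat.prime_two⟩
  have h2 := hh.toDih.two_le
  have hzl : ∀ g : G, g * (σ ^ l)⁻¹ ∈ K → ∃ N : ℕ, g ^ N = σ ^ h := by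
    intro g hg
    obtain ⟨j, hj⟩ : Odd (Nat.card K) := Nat.not_even_iff_odd.1 fun he =>
      hK.odd (even_iff_two_dvd.1 he)
    have hp : ∀ i : ℕ, ∃ b ∈ K, g ^ i = b * (σ ^ l) ^ i := by
      intro i
      induction i with
      | zero => exact ⟨1, one_mem K, by simp⟩
      | succ i ih =>
        obtain ⟨b, hb, hbi⟩ := ih
        refine ⟨b * ((σ ^ l) ^ i * (g * (σ ^ l)⁻¹) * ((σ ^ l) ^ i)⁻¹), mul_mem hb (hK.norm _
          (((Commute.pow_pow_self σ l h)).pow_left i) _ hg), ?_⟩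
        rw [pow_succ, hbi, pow_succ]
        group
    obtain ⟨i, hi⟩ : ∃ i : ℕ, (σ ^ l) ^ i = σ ^ h := by
      rcases hl with rfl | rfl
      · exact ⟨h, by rw [pow_one]⟩
      · exact ⟨1, pow_one _⟩
    obtain ⟨b, hb, hbi⟩ := hp i
    refine ⟨i * Nat.card K, ?_⟩
    rw [pow_mul, hbi, hi, (hK.comm b hb).mul_pow]
    have hb1 : b ^ Nat.card K = 1 :=
      orderOf_dvd_iff_pow_eq_one.1 (Subgroup.orderOf_dvd_natCard K hb)
    rw [hb1, one_mul, hj, pow_succ, pow_mul, sq, hh.toDih.z_ne.2, one_pow, one_mul]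
  have hpc : ∀ g, pairCount (σ ^ h) (σ ^ h) g =
      (Finset.univ.filter fun a : G => IsConj (σ ^ h) a ∧ IsConj (σ ^ h) (a⁻¹ * g)).card := fun g => by
    rw [pairCount, Nat.card_eq_fintype_card, Fintype.card_subtype]
  simp only [hpc]
  rw [← Finset.card_sigma]
  refine Finset.card_bij (fun a _ => (a.2, a.2⁻¹ * a.1)) (fun a ha => ?_) (fun a ha b hb e => ?_)
    (fun x hx => ?_)
  · obtain ⟨hg, ha'⟩ := Finset.mem_sigma.1 ha
    obtain ⟨g, a⟩ := a
    simp only [Finset.mem_filter, Finset.mem_univ, true_and] at hg ha'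
    obtain ⟨ha1, ha2⟩ := ha'
    obtain ⟨a1, a2⟩ := (isConj_z hh hc).1 ha1
    obtain ⟨b1, b2⟩ := (isConj_z hh hc).1 ha2
    have hai : a⁻¹ = a := inv_eq_of_mul_eq_one_left a1
    obtain ⟨N, hN⟩ := hzl g hg
    have hinv : a * g * a⁻¹ = g⁻¹ := by
      refine eq_inv_of_mul_eq_one_left ?_
      rw [show a * g * a⁻¹ * g = a * g * (a⁻¹ * g) by group]
      nth_rewrite 1 [← hai]
      exact b1
    have haz : Commute a (σ ^ h) := by
      refine mul_inv_eq_iff_eq_mul.1 ?_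
      rw [← hN, ← conj_pow, hinv, inv_pow, hN]
      exact inv_eq_of_mul_eq_one_left hh.toDih.z_ne.2
    have hgz : Commute g (σ ^ h) := hN ▸ Commute.self_pow g N
    have hne : ∀ {b : G}, b * b = 1 → b ≠ 1 → g = σ ^ h * b → False := by
      intro b hb hb1 e
      obtain ⟨k, hk, hgk⟩ : ∃ k ∈ K, g = k * σ ^ l := ⟨_, hg, by group⟩
      have hb' : b = (σ ^ h) * k * (σ ^ h)⁻¹ * (σ ^ h * σ ^ l) := by
        calc b = σ ^ h * (σ ^ h * b) := by rw [← mul_assoc, hh.toDih.z_ne.2, one_mul]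
          _ = _ := by rw [← e, hgk]; group
      rw [(hK.comm k hk).symm.eq, mul_inv_cancel_right, ← pow_add] at hb'
      rw [hb'] at hb
      have hcz : Commute (σ ^ (h + l)) (σ ^ h) := Commute.pow_pow_self σ _ _
      have e2 := (hK.uniq (mul_mem hk (hK.norm _ hcz k hk)) (one_mem K)
        (mul_mem (pow_mem hh.mem _) (pow_mem hh.mem _)) (one_mem (P : Subgroup G))
        (show k * (σ ^ (h + l) * k * (σ ^ (h + l))⁻¹) * (σ ^ (h + l) * σ ^ (h + l)) = 1 * 1 by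
          rw [one_mul]; rw [← hb]; group)).2
      have e1 := (hK.uniq (mul_mem hk (hK.norm _ hcz k hk)) (one_mem K)
        (mul_mem (pow_mem hh.mem _) (pow_mem hh.mem _)) (one_mem (P : Subgroup G))
        (show k * (σ ^ (h + l) * k * (σ ^ (h + l))⁻¹) * (σ ^ (h + l) * σ ^ (h + l)) = 1 * 1 by
          rw [one_mul]; rw [← hb]; group)).1
      rcases hl with rfl | rfl
      · rw [← pow_add] at e2
        have := Nat.modEq_zero_iff_dvd.2 (hh.ord ▸ orderOf_dvd_of_pow_eq_one e2)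
        have h22 : (h + 1 + (h + 1)) % (2 * h) = 2 := by
          rw [show h + 1 + (h + 1) = 2 + 2 * h by ring, Nat.add_mod_right,
            Nat.mod_eq_of_lt (by omega)]
        unfold Nat.ModEq at this
        rw [h22, Nat.zero_mod] at this
        omega
      · have hp0 : σ ^ (l + l) = 1 := by rw [pow_add]; exact hh.toDih.z_ne.2
        rw [hp0, one_mul, inv_one, mul_one] at e1
        have hk1 : k = 1 := orderOf_eq_one_iff.1 (Nat.eq_one_of_dvd_coprimes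
          (Nat.prime_two.coprime_iff_not_dvd.2 hK.odd)
          (orderOf_dvd_of_pow_eq_one (by rw [sq, e1])) (Subgroup.orderOf_dvd_natCard K hk))
        rw [hp0] at hb'
        rw [hk1, mul_one] at hb'
        exact hb1 hb'
    refine Finset.mem_filter.2 ⟨Finset.mem_product.2 ⟨mem_invs.2 ⟨a1, a2, haz, fun e => ?_⟩,
      mem_invs.2 ⟨b1, b2, haz.inv_left.mul_left hgz, fun e => ?_⟩⟩, ?_⟩
    · refine hne b1 b2 ?_
      show g = σ ^ h * (a⁻¹ * g)
      have e' : a = σ ^ h := e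
      rw [e', mul_inv_cancel_left]
    · refine hne a1 a2 ?_
      show g = σ ^ h * a
      have e' : a⁻¹ * g = σ ^ h := e
      rw [← haz.eq, ← e', mul_inv_cancel_left]
    · show a * (a⁻¹ * g) * (σ ^ l)⁻¹ ∈ K
      rw [mul_inv_cancel_left]
      exact hg
  · obtain ⟨g, a⟩ := a
    obtain ⟨g', a'⟩ := b
    simp only [Prod.mk.injEq] at e
    obtain ⟨rfl, e2⟩ := e
    rw [mul_left_cancel e2]
  · obtain ⟨x₁, x₂⟩ := x
    simp only [Finset.mem_filter, Finset.mem_product] at hx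
    obtain ⟨⟨h1, h2'⟩, h3⟩ := hx
    obtain ⟨a1, a2, -, -⟩ := mem_invs.1 h1
    obtain ⟨b1, b2, -, -⟩ := mem_invs.1 h2'
    refine ⟨⟨x₁ * x₂, x₁⟩, ?_, by simp⟩
    simp only [Finset.mem_sigma, Finset.mem_filter, Finset.mem_univ, true_and]
    exact ⟨h3, (isConj_z hh hc).2 ⟨a1, a2⟩,
      (isConj_z hh hc).2 (by rw [inv_mul_cancel_left]; exact ⟨b1, b2⟩)⟩

theorem order_formula (hM : IsPModular 2 M) (hh : DihPair P σ τ h)
    (hc : IsConj (σ ^ h) τ ∧ IsConj (σ ^ h) (σ * τ)) {χ₁ : IrrCharacter G}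
    (hχ₁ : χ₁ ∈ principalBlock M G) (h1 : χ₁ ≠ oneIrr G) {δ : ℤ} (hδ : δ = 1 ∨ δ = -1)
    (hval : ∀ l : ℕ, 0 < l → l < 2 * h → (χ₁ : G → ℂ) (σ ^ l) = δ) :
    (charDegree (χ₁ : G → ℂ) : ℤ) ≠ δ ∧
      (Nat.card G : ℤ) * ((charDegree (χ₁ : G → ℂ) : ℤ) - δ) ^ 2 =
        2 * (charDegree (χ₁ : G → ℂ) : ℤ) * ((charDegree (χ₁ : G → ℂ) : ℤ) + δ) *
          (Nat.card (Subgroup.centralizer ({σ ^ h} : Set G)) : ℤ) * ((invs (σ ^ h)).card : ℤ) ^ 2 := by
  classical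
  have h2 := hh.toDih.two_le
  let ζ : ℂ := Complex.exp (2 * Real.pi * Complex.I / (2 * h : ℕ))
  have hζ : IsPrimitiveRoot ζ (2 * h) := Complex.isPrimitiveRoot_exp _ (by omega)
  obtain ⟨U, V, W, s, eU, eV, eW, hU, hV, hW, hs, ⟨oU, oV, oW, UV, UW, VW⟩, hsne, hB, hv, hreg⟩ :=
    hh.toDih.exists_columns hM hζ
  have hhalf : ζ ^ h = -1 := IsPrimitiveRoot.eq_neg_one_of_two_right
    (hζ.pow (by omega) (mul_comm 2 h))
  have hWh : ∀ j : ℕ, ((ζ ^ (j + 1)) ^ h + ((ζ ^ (j + 1)) ^ h)⁻¹) = 2 * (-1) ^ (j + 1) := by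
    intro j
    rw [← pow_mul, mul_comm, pow_mul, hhalf]
    rcases neg_one_pow_eq_or ℂ (j + 1) with e | e <;> rw [e] <;> norm_num
  have hunit : ∀ {e : ℤ}, e = 1 ∨ e = -1 → (e : ℂ) * e = 1 := by
    rintro e (rfl | rfl) <;> norm_num
  have hunit0 : ∀ {e : ℤ}, e = 1 ∨ e = -1 → (e : ℂ) ≠ 0 := by
    rintro e (rfl | rfl) <;> norm_num
  -- identify the character
  have hχW : χ₁ = W ∧ δ = eW := by
    have ha := hval 1 Nat.one_pos (by omega)
    have hb := hval 2 (by omega) (by omega)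
    rcases (hB χ₁).1 hχ₁ with e | e | e | e | ⟨j, e⟩
    · exact absurd e h1
    · exfalso
      rw [e, (hv 1 Nat.one_pos (by omega)).2.1] at ha
      rw [e, (hv 2 (by omega) (by omega)).2.1, ← ha] at hb
      norm_num at hb
      rcases hU with rfl | rfl <;> norm_num at hb
    · exfalso
      rw [e, (hv 1 Nat.one_pos (by omega)).2.2.1] at ha
      rw [e, (hv 2 (by omega) (by omega)).2.2.1, ← ha] at hb
      norm_num at hb
      rcases hV with rfl | rfl <;> norm_num at hb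
    · refine ⟨e, ?_⟩
      rw [e, (hv 1 Nat.one_pos (by omega)).1] at ha
      exact_mod_cast ha.symm
    · exfalso
      have hh' := hval h (by omega) (by omega)
      rw [e, (hv h (by omega) (by omega)).2.2.2 j, hWh] at hh'
      rcases hδ with rfl | rfl <;> rcases hW with rfl | rfl <;>
        rcases neg_one_pow_eq_or ℂ ((j : ℕ) + 1) with e' | e' <;> rw [e'] at hh' <;>
        norm_num at hh'
  obtain ⟨rfl, rfl⟩ := hχW
  obtain ⟨K, hK⟩ := hh.toDih.exists_core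
  set x : ℂ := (χ₁ : G → ℂ) 1 with hx
  have hxne : x ≠ 0 := irr_ne_zero χ₁.2
  have hxj : ∀ j : Fin (h - 1), (s j : G → ℂ) 1 = x + δ := by
    intro j
    have e := (hreg 1 (by simp) j).2
    linear_combination (-(δ : ℂ)) * e + ((χ₁ : G → ℂ) 1 - (s j : G → ℂ) 1) * (hunit hW)
  have hxne' : x + δ ≠ 0 := by
    have hpos : 0 < h - 1 := by omega
    rw [← hxj ⟨0, hpos⟩]
    exact irr_ne_zero (s _).2
  -- the two sums over the principal block
  set R : ℂ := ∑ χ ∈ bset (principalBlock M G), (χ : G → ℂ) (σ ^ h) ^ 2 / (χ : G → ℂ) 1 *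
    ((χ : G → ℂ) (σ ^ h) + (χ : G → ℂ) (σ ^ 1)) with hR
  have hsumW : ∑ j : Fin (h - 1), ((δ : ℂ) * (2 * (-1) ^ ((j : ℕ) + 1)) +
      δ * ((ζ ^ ((j : ℕ) + 1)) ^ 1 + ((ζ ^ ((j : ℕ) + 1)) ^ 1)⁻¹)) = -2 * (δ : ℂ) := by
    have e1 := sum_W hζ (show 0 < h by omega) (show h < 2 * h by omega)
    have e2 := sum_W hζ Nat.one_pos (show 1 < 2 * h by omega)
    simp only [hWh] at e1
    rw [Finset.sum_add_distrib]
    simp only [← Finset.mul_sum] at e1 ⊢
    have e3 : (-1 : ℂ) ^ (h + 1) = -1 := by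
      obtain ⟨a, ha⟩ := hh.hpow
      refine (Even.add_one ?_).neg_one_pow
      rw [ha]; exact ⟨2 ^ a, by rw [pow_succ]; ring⟩
    norm_num at e2
    rw [e3] at e1
    simp only [pow_one] at e2 ⊢
    linear_combination (δ : ℂ) * e1 + (δ : ℂ) * e2
  have hRval : R * (x * (x + δ)) = 2 * (x - δ) ^ 2 := by
    have hbs : bset (principalBlock M G) =
        insert (oneIrr G) (insert U (insert V (insert χ₁ (Finset.univ.image s)))) := by
      ext χ
      simp only [mem_bset, hB χ, Finset.mem_insert, Finset.mem_image, Finset.mem_univ, true_and,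
        eq_comm]
    rw [hR, hbs, Finset.sum_insert (by simp [oU, oV, oW, fun k => (hsne k).1]),
      Finset.sum_insert (by simp [UV, UW, fun k => (hsne k).2.1]),
      Finset.sum_insert (by simp [VW, fun k => (hsne k).2.2.1]),
      Finset.sum_insert (by simp [fun k => (hsne k).2.2.2]), Finset.sum_image hs.injOn]
    obtain ⟨hWz, hUz, hVz, hsz⟩ := hv h (by omega) (by omega)
    obtain ⟨hW1, hU1, hV1, hs1⟩ := hv 1 Nat.one_pos (by omega)
    have e3 : (-1 : ℂ) ^ (h + 1) = -1 := by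
      obtain ⟨a, ha⟩ := hh.hpow
      refine (Even.add_one ?_).neg_one_pow
      rw [ha]; exact ⟨2 ^ a, by rw [pow_succ]; ring⟩
    have e4 : (-1 : ℂ) ^ (1 + 1) = 1 := by norm_num
    have ho : ∀ g, (oneIrr G : G → ℂ) g = 1 := fun g => rfl
    simp only [ho, hWz, hUz, hVz, hsz, hW1, hU1, hV1, hs1, hWh, hxj, e3, e4, ← hx]
    have e5 : ∀ j : Fin (h - 1), ((δ : ℂ) * (2 * (-1) ^ ((j : ℕ) + 1))) ^ 2 = 4 := fun j => by
      rw [mul_pow, mul_pow, ← pow_mul, mul_comm _ 2, pow_mul, sq (δ : ℂ), hunit hW]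
      norm_num
    simp only [e5]
    rw [← Finset.mul_sum, hsumW]
    field_simp
    linear_combination (2 * (x + δ)) * (δ : ℂ) * (hunit hW)
  -- the counting
  set c : ℕ := Nat.card (Subgroup.centralizer ({σ ^ h} : Set G)) with hcdef
  have hclv : ∀ χ : IrrCharacter G, clv (σ ^ h) χ * (χ : G → ℂ) (σ ^ h) * (c : ℂ) =
      (Nat.card G : ℂ) * ((χ : G → ℂ) (σ ^ h) ^ 2 / (χ : G → ℂ) 1) := by
    intro χ
    rw [clv, centralChar, ← Subgroup.index_mul_card (Subgroup.centralizer ({σ ^ h} : Set G)),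
      ← hcdef, Nat.cast_mul]
    ring
  have hside : ∀ l : ℕ, (l = 1 ∨ l = h) →
      (c : ℂ) ^ 2 * (((invs (σ ^ h) ×ˢ invs (σ ^ h)).filter
        fun y => y.1 * y.2 * (σ ^ l)⁻¹ ∈ K).card : ℂ) =
      (Nat.card G : ℂ) * (Nat.card K : ℂ) * ∑ χ ∈ bset (principalBlock M G),
        (χ : G → ℂ) (σ ^ h) ^ 2 / (χ : G → ℂ) 1 * (χ : G → ℂ) (σ ^ l) := by
    intro l hl
    have hl0 : 0 < l := by omega
    have hl2 : l < 2 * h := by omega
    obtain ⟨hlm, hlo⟩ := hh.toDih.pow_mem l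
    obtain ⟨k, hk⟩ := hh.toDih.ord_pow
    obtain ⟨Ky, hKy, hKo, ky, hky⟩ : ∃ Ky : Subgroup (Subgroup.centralizer ({σ ^ l} : Set G)),
        Ky.Normal ∧ ¬ 2 ∣ Nat.card Ky ∧ ∃ ky, Ky.index = 2 ^ ky := by
      rcases hl with rfl | rfl
      · obtain ⟨Ky, a, b, c'⟩ := hh.toDih.complement_rot hlm (fun e => by
          have := Nat.le_of_dvd (by norm_num) (orderOf_dvd_of_pow_eq_one (x := σ) (n := 2)
            (by rw [sq]; simpa using e))
          rw [hh.ord] at this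
          omega)
        exact ⟨Ky, a, b, k, c'.trans hk⟩
      · obtain ⟨Ky, a, b, c'⟩ := hh.toDih.complement_z
        exact ⟨Ky, a, b, k + 1, by rw [c', hk]; ring⟩
    have hcz : ∀ y : G, Commute y (σ ^ l) → Commute y (σ ^ h) := by
      intro y hy
      rcases hl with rfl | rfl
      · rw [pow_one] at hy; exact hy.pow_right h
      · exact hy
    have hsum := fun χ : IrrCharacter G => coset_sum (y := σ ^ l) hM hK
      (Commute.pow_pow_self σ l h) hlo hcz hKy hKo hky χ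
    rw [← sum_pairCount hh hc hK hl, Nat.cast_sum, Finset.mul_sum]
    have e : ∀ g, (c : ℂ) ^ 2 * (pairCount (σ ^ h) (σ ^ h) g : ℂ) =
        (Nat.card G : ℂ) * ∑ χ : IrrCharacter G,
          (χ : G → ℂ) (σ ^ h) ^ 2 / (χ : G → ℂ) 1 * conj ((χ : G → ℂ) g) := by
      intro g
      rw [sq (c : ℂ), mul_assoc, mul_comm (c : ℂ) (pairCount _ _ _ : ℂ), hcdef, pairCount_mul,
        ← hcdef, Finset.mul_sum, Finset.mul_sum]
      exact Finset.sum_congr rfl fun χ _ => by rw [← mul_assoc (Nat.card G : ℂ), ← hclv χ]; ring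
    rw [Finset.sum_congr rfl fun g _ => e g, ← Finset.mul_sum, Finset.sum_comm]
    have e2 : ∀ χ : IrrCharacter G, ∑ g ∈ Finset.univ.filter (fun g => g * (σ ^ l)⁻¹ ∈ K),
        (χ : G → ℂ) (σ ^ h) ^ 2 / (χ : G → ℂ) 1 * conj ((χ : G → ℂ) g) =
        (Nat.card K : ℂ) * (if χ ∈ bset (principalBlock M G) then
          (χ : G → ℂ) (σ ^ h) ^ 2 / (χ : G → ℂ) 1 * (χ : G → ℂ) (σ ^ l) else 0) := by
      intro χ
      rw [← Finset.mul_sum, ← map_sum, hsum χ, map_mul, map_mul, map_natCast, hh.toDih.value_real]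
      by_cases hm : χ ∈ principalBlock M G
      · rw [ind_of_mem hm, map_one, if_pos (mem_bset.2 hm)]; ring
      · rw [ind_of_notMem hm, map_zero, if_neg (fun hm' => hm (mem_bset.1 hm'))]; ring
    rw [Finset.sum_congr rfl fun χ _ => e2 χ, ← Finset.mul_sum, ← mul_assoc, ← Finset.sum_filter]
    congr 1
    exact Finset.sum_congr (by ext; simp) fun _ _ => rfl
  -- the two parities
  set A := (inv' K σ τ 0).card
  set B := (inv' K σ τ 1).card
  have hpar : ((invs (σ ^ h)).card : ℕ) ^ 2 =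
      h * (((invs (σ ^ h) ×ˢ invs (σ ^ h)).filter fun y => y.1 * y.2 * (σ ^ h)⁻¹ ∈ K).card +
        ((invs (σ ^ h) ×ˢ invs (σ ^ h)).filter fun y => y.1 * y.2 * (σ ^ 1)⁻¹ ∈ K).card) := by
    rw [hh.card_invs hK, hh.card_pairs hK h, hh.card_pairs hK 1]
    have hev : h % 2 = 0 := by
      obtain ⟨a, ha⟩ := hh.hpow
      rw [ha, pow_succ]
      omega
    have e1 : ∀ m : ℕ, (inv' K σ τ ((m + h) % 2)).card * (inv' K σ τ (m % 2)).card =
        (fun i => (inv' K σ τ (i % 2)).card * (inv' K σ τ (i % 2)).card) (m % 2) := fun m => by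
      simp only [Nat.mod_mod]
      rw [show (m + h) % 2 = m % 2 by omega]
    have e2 : ∀ m : ℕ, (inv' K σ τ ((m + 1) % 2)).card * (inv' K σ τ (m % 2)).card =
        (fun i => (inv' K σ τ ((i + 1) % 2)).card * (inv' K σ τ (i % 2)).card) (m % 2) := fun m => by
      simp only [Nat.mod_mod, Nat.mod_add_mod]
    rw [Finset.sum_congr rfl fun m _ => e1 m, Finset.sum_congr rfl fun m _ => e2 m,
      sum_parity (fun i => (inv' K σ τ (i % 2)).card * (inv' K σ τ (i % 2)).card) h,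
      sum_parity (fun i => (inv' K σ τ ((i + 1) % 2)).card * (inv' K σ τ (i % 2)).card) h]
    norm_num
    ring
  have hcard : (c : ℂ) = 4 * h * Nat.card K := by
    rw [hcdef, hK.card, hh.toDih.card]
    push_cast
    ring
  have hmain : (Nat.card G : ℂ) * (x - δ) ^ 2 =
      2 * x * (x + δ) * c * ((invs (σ ^ h)).card : ℂ) ^ 2 := by
    have e0 := congrArg (fun n : ℕ => (n : ℂ)) hpar
    push_cast at e0
    have e1 := hside h (Or.inr rfl)
    have e2 := hside 1 (Or.inl rfl)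
    have e3 : (c : ℂ) ^ 2 * ((invs (σ ^ h)).card : ℂ) ^ 2 =
        (h : ℂ) * Nat.card G * Nat.card K * R := by
      rw [e0, hR]
      simp only [mul_add, Finset.sum_add_distrib]
      linear_combination (h : ℂ) * e1 + (h : ℂ) * e2
    have hne : (h : ℂ) * Nat.card K ≠ 0 := mul_ne_zero (Nat.cast_ne_zero.2 (by omega))
      (Nat.cast_ne_zero.2 Nat.card_pos.ne')
    apply mul_left_cancel₀ hne
    linear_combination (-(h : ℂ) * Nat.card K * Nat.card G / 2) * hRval -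
      (x * (x + δ) / 2) * e3 +
      (x * (x + δ) * c * ((invs (σ ^ h)).card : ℂ) ^ 2 / 2) * hcard
  have hxd : x = ((charDegree (χ₁ : G → ℂ) : ℤ) : ℂ) := by
    rw [hx, Int.cast_natCast, irr_charDegree_cast]
  have hint : (Nat.card G : ℤ) * ((charDegree (χ₁ : G → ℂ) : ℤ) - δ) ^ 2 =
      2 * (charDegree (χ₁ : G → ℂ) : ℤ) * ((charDegree (χ₁ : G → ℂ) : ℤ) + δ) *
        (c : ℤ) * ((invs (σ ^ h)).card : ℤ) ^ 2 := by
    apply Int.cast_injective (α := ℂ)
    push_cast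
    rw [hxd] at hmain
    push_cast at hmain
    exact hmain
  refine ⟨fun e => ?_, hint⟩
  rw [e, sub_self] at hint
  have hJ : 0 < (invs (σ ^ h)).card := Finset.card_pos.2 ⟨τ, mem_invs.2
    ⟨hh.tinv.1, fun e => hh.tnot (e ▸ one_mem _), hh.toDih.z_central hh.tmem,
      fun e => hh.tnot (e ▸ Subgroup.npow_mem_zpowers σ h)⟩⟩
  have hδ1 : δ = 1 := by
    rcases hW with e' | e'
    · exact e'
    · omega
  rw [hδ1] at hint
  have hcpos : 0 < c := Nat.card_pos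
  have : (0 : ℤ) < 2 * 1 * (1 + 1) * (c : ℤ) * ((invs (σ ^ h)).card : ℤ) ^ 2 :=
    mul_pos (mul_pos (by norm_num) (Int.natCast_pos.2 hcpos)) (pow_pos (Int.natCast_pos.2 hJ) 2)
  rw [← hint] at this
  simp at this

end CfsgLib.Blocks.Dihedral
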