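import Cfsg.Agent.Lib.CharTheory.Basic

/-!
# Fourier coefficients of a character on a cyclic subgroup of order twice `h`
-/

namespace CfsgLib.Blocks.Dihedral

open Cfsg CfsgLib.CharTheory
open scoped ComplexConjugate

set_option linter.unusedVariables false
set_option linter.unusedSectionVars false

universe u

variable {G : Type u} [Group G] [Finite G]

theorem zmod_pow {A : Type*} [Monoid A] {N : ℕ} [NeZero N] {x : A} (hx : x ^ N = 1)
    (a b : ZMod N) : x ^ (a + b).val = x ^ a.val * x ^ b.val := by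
  rw [ZMod.val_add, ← pow_add, ← pow_eq_pow_mod _ hx]

/-- The homomorphism from the cyclic group of order `N`. -/
def powHom {A : Type*} [Monoid A] (N : ℕ) [NeZero N] (x : A) (hx : x ^ N = 1) :
    Multiplicative (ZMod N) →* A where
  toFun a := x ^ (Multiplicative.toAdd a).val
  map_one' := by simp
  map_mul' a b := by rw [toAdd_mul]; exact zmod_pow hx _ _

theorem root_sum {N : ℕ} {ζ : ℂ} (hζ : IsPrimitiveRoot ζ N) (a : ℕ) :
    ∑ l ∈ Finset.range N, (ζ ^ a) ^ l = if N ∣ a then (N : ℂ) else 0 := by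
  split_ifs with h
  · rw [(hζ.pow_eq_one_iff_dvd a).2 h]
    simp
  · have h1 : ζ ^ a ≠ 1 := fun e => h ((hζ.pow_eq_one_iff_dvd a).1 e)
    rw [geom_sum_eq h1, ← pow_mul, mul_comm, pow_mul, hζ.pow_eq_one, one_pow, sub_self, zero_div]

theorem flip_pow {N : ℕ} {ζ : ℂ} (hζ : IsPrimitiveRoot ζ N) (hN : N ≠ 0) {i m : ℕ} (hi : i ≤ N)
    (hm : m ≤ N) : (ζ ^ (N - i)) ^ m = (ζ ^ (N - m)) ^ i := by
  have h0 : ζ ^ (i * m) ≠ 0 := pow_ne_zero _ (hζ.ne_zero hN)
  apply mul_right_cancel₀ h0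
  rw [← pow_mul, ← pow_mul, ← pow_add, ← pow_add, ← add_mul, Nat.sub_add_cancel hi,
    mul_comm i m, ← add_mul, Nat.sub_add_cancel hm, pow_mul, pow_mul, hζ.pow_eq_one, one_pow, one_pow]

theorem inv_pow_eq {N : ℕ} {ζ : ℂ} (hζ : IsPrimitiveRoot ζ N) (hN : N ≠ 0) {i : ℕ} (hi : i ≤ N)
    (l : ℕ) : ((ζ ^ i) ^ l)⁻¹ = (ζ ^ (N - i)) ^ l := by
  refine (eq_inv_of_mul_eq_one_left ?_).symm
  rw [← mul_pow, ← pow_add, Nat.sub_add_cancel hi, hζ.pow_eq_one, one_pow]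

theorem conj_pow_eq {N : ℕ} {ζ : ℂ} (hζ : IsPrimitiveRoot ζ N) (hN : N ≠ 0) {i : ℕ} (hi : i ≤ N)
    (l : ℕ) : conj ((ζ ^ (N - i)) ^ l) = (ζ ^ i) ^ l := by
  rw [← inv_pow_eq hζ hN hi, ← Complex.inv_eq_conj, inv_inv]
  simp [norm_inv, norm_pow, hζ.norm'_eq_one hN]

/-- The multiplicities on a cyclic subgroup. -/
noncomputable def coef (N : ℕ) (ζ : ℂ) (σ : G) (f : G → ℂ) (i : ℕ) : ℂ :=
  (N : ℂ)⁻¹ * ∑ l ∈ Finset.range N, f (σ ^ l) * (ζ ^ (N - i)) ^ l

theorem coef_int {N : ℕ} [NeZero N] {ζ : ℂ} (hζ : IsPrimitiveRoot ζ N) {σ : G} (hσ : σ ^ N = 1)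
    {χ : G → ℂ} (hχ : IsCharacter G χ) {i : ℕ} (hi : i ≤ N) :
    ∃ m : ℤ, coef N ζ σ χ i = (m : ℂ) := by
  classical
  have hN := NeZero.ne N
  let f := powHom N σ hσ
  let φ : Multiplicative (ZMod N) →* ℂˣ :=
    (powHom N (ζ ^ i) (by rw [← pow_mul, mul_comm, pow_mul, hζ.pow_eq_one, one_pow])).toHomUnits
  obtain ⟨m, hm⟩ := classInner_char_nat (isCharacter_comp hχ f)
    (isCharacter_of_irr (isIrrCharacter_linear φ))
  refine ⟨(m : ℤ), ?_⟩
  rw [Int.cast_natCast, ← hm, classInner, coef,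
    Nat.card_congr Multiplicative.toAdd, Nat.card_zmod]
  refine congrArg _ (Finset.sum_bij' (fun l _ => Multiplicative.ofAdd (l : ZMod N))
    (fun a _ => (Multiplicative.toAdd a).val) (fun _ _ => Finset.mem_univ _)
    (fun a _ => Finset.mem_range.2 (ZMod.val_lt _))
    (fun l hl => by simp [ZMod.val_cast_of_lt (Finset.mem_range.1 hl)])
    (fun a _ => by simp) fun l hl => ?_)
  have hl' := ZMod.val_cast_of_lt (Finset.mem_range.1 hl)
  show _ = χ (σ ^ _) * conj ((ζ ^ i) ^ _)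
  rw [toAdd_ofAdd, hl', ← conj_pow_eq hζ hN hi, Complex.conj_conj]

theorem coef_inversion {N : ℕ} {ζ : ℂ} (hζ : IsPrimitiveRoot ζ N) (hN : N ≠ 0) {σ : G}
    (f : G → ℂ) {l : ℕ} (hl : l < N) :
    ∑ i ∈ Finset.range N, coef N ζ σ f i * (ζ ^ i) ^ l = f (σ ^ l) := by
  have hN' : (N : ℂ) ≠ 0 := Nat.cast_ne_zero.2 hN
  simp only [coef]
  simp_rw [mul_assoc, Finset.sum_mul]
  rw [← Finset.mul_sum, Finset.sum_comm]
  have e : ∀ m ∈ Finset.range N,
      ∑ i ∈ Finset.range N, f (σ ^ m) * (ζ ^ (N - i)) ^ m * (ζ ^ i) ^ l =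
        f (σ ^ m) * if m = l then (N : ℂ) else 0 := by
    intro m hm
    have hm' := Finset.mem_range.1 hm
    have : ∀ i ∈ Finset.range N, f (σ ^ m) * (ζ ^ (N - i)) ^ m * (ζ ^ i) ^ l =
        f (σ ^ m) * (ζ ^ (N - m + l)) ^ i := fun i hi => by
      rw [flip_pow hζ hN (Finset.mem_range.1 hi).le hm'.le, pow_add, mul_pow, mul_assoc,
        ← pow_mul ζ i l, mul_comm i l, pow_mul]
    rw [Finset.sum_congr rfl this, ← Finset.mul_sum, root_sum hζ]
    congr 1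
    refine if_congr ⟨fun h => ?_, fun h => ?_⟩ rfl rfl
    · obtain ⟨q, hq⟩ := h
      rcases q with _ | _ | q
      · omega
      · omega
      · nlinarith [Nat.sub_le N m]
    · exact ⟨1, by omega⟩
  rw [Finset.sum_congr rfl e]
  simp only [mul_ite, mul_zero, Finset.sum_ite_eq', Finset.mem_range, hl, if_true]
  field_simp

theorem sum_range_split (M : ℕ) (g : ℕ → ℂ) :
    ∑ i ∈ Finset.range (2 * (M + 1)), g i =
      g 0 + g (M + 1) + ∑ j ∈ Finset.range M, (g (j + 1) + g (2 * (M + 1) - (j + 1))) := by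
  rw [two_mul, Finset.sum_range_add, Finset.sum_range_succ' g,
    Finset.sum_range_succ' fun x => g (M + 1 + x), Finset.sum_add_distrib,
    ← Finset.sum_range_reflect (fun x => g (M + 1 + (x + 1)))]
  have : ∀ j ∈ Finset.range M, g (M + 1 + (M - 1 - j + 1)) = g (M + 1 + (M + 1) - (j + 1)) :=
    fun j hj => by
      have := Finset.mem_range.1 hj
      congr 1
      omega
  rw [Finset.sum_congr rfl this, add_zero]
  ring

theorem dvd_small {N x : ℕ} (hx : x < 3 * N) : N ∣ x ↔ x = 0 ∨ x = N ∨ x = 2 * N := by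
  constructor
  · rintro ⟨q, rfl⟩
    rcases q with _ | _ | _ | q
    · simp
    · simp
    · omega
    · nlinarith
  · rintro (rfl | rfl | rfl)
    · exact dvd_zero _
    · exact dvd_rfl
    · exact dvd_mul_left _ _

end CfsgLib.Blocks.Dihedral
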