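import Cfsg.Agent.Lib.Blocks.AbelianFreeLocal

/-!
# Sections whose centraliser has a normal p-complement, in the principal block
-/

namespace CfsgLib.Blocks.Dihedral

open Cfsg CfsgLib.CharTheory CfsgLib.Blocks.AbelianFree
open scoped ComplexConjugate

set_option linter.unusedVariables false
set_option linter.style.haveILetI false
set_option linter.unusedSectionVars false

universe u

variable {G : Type u} [Group G] [Fintype G] {p : ℕ} {M : Ideal AlgInt}

/-- On such a section the characters outside the principal block average to zero and those inside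
are constant. -/
theorem section_key (hM : IsPModular p M) {y : G} (hy : ∃ k, orderOf y = p ^ k)
    (K : Subgroup (Subgroup.centralizer ({y} : Set G))) [K.Normal] (hK : ¬ p ∣ Nat.card K) {k : ℕ}
    (hidx : K.index = p ^ k) (χ : IrrCharacter G) {v : G} (hv : v ∈ regC p y) :
    ((regC p y).card : ℂ) * (ind (principalBlock M G) χ * (χ : G → ℂ) (y * v)) =
      ∑ w ∈ regC p y, (χ : G → ℂ) (y * w) := by
  classical
  haveI : Fact p.Prime := ⟨hM.1⟩
  have hc := isCentr_centralizer y
  have hreg := mem_iff_regular hM.1 hK hidx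
  obtain ⟨hvc, hvr⟩ := mem_regC.1 hv
  set v' : (Subgroup.centralizer ({y} : Set G)) := ⟨v, (hc v).2 hvc⟩
  have hvK : v' ∈ K := (hreg v').2 (by rw [← Subgroup.orderOf_coe]; exact hvr)
  have h1 := sec_eq_overBlocks hM hc hy principalBlock_isPBlock χ
    (y := v') (by rw [← Subgroup.orderOf_coe]; exact hvr)
  rw [overBlocks_principal hM hc hy,
    principalBlock_of_complement (G := (Subgroup.centralizer ({y} : Set G))) hM hK ⟨k, hidx⟩, blockPart_apply] at h1
  rw [← h1, Finset.sum_congr rfl fun φ hφ => by rw [(mem_bset.1 hφ) v' hvK]]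
  have e : ∀ φ : IrrCharacter (Subgroup.centralizer ({y} : Set G)), classInner (sec y (Subgroup.centralizer ({y} : Set G)) (χ : G → ℂ)) (φ : (Subgroup.centralizer ({y} : Set G)) → ℂ) * (φ : (Subgroup.centralizer ({y} : Set G)) → ℂ) 1 =
      (Nat.card (Subgroup.centralizer ({y} : Set G)) : ℂ)⁻¹ * ∑ c : (Subgroup.centralizer ({y} : Set G)),
        sec y (Subgroup.centralizer ({y} : Set G)) (χ : G → ℂ) c * ((φ : (Subgroup.centralizer ({y} : Set G)) → ℂ) 1 * conj ((φ : (Subgroup.centralizer ({y} : Set G)) → ℂ) c)) := by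
    intro φ
    rw [classInner, mul_assoc, Finset.sum_mul]
    exact congrArg _ (Finset.sum_congr rfl fun c _ => by ring)
  rw [Finset.sum_congr rfl fun φ _ => e φ, ← Finset.mul_sum, Finset.sum_comm,
    Finset.sum_congr rfl fun c _ => by rw [← Finset.mul_sum, kernel_sum K c, mul_ite, mul_zero],
    ← Finset.sum_filter, ← Finset.sum_mul]
  rw [Finset.sum_subtype (Finset.univ.filter fun c : (Subgroup.centralizer ({y} : Set G)) => c ∈ K) (p := fun c => c ∈ K)
    (fun c => by simp), sum_regC hM.1 hK hidx, Finset.card_eq_sum_ones,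
    sum_regC hM.1 hK hidx, ← Finset.card_eq_sum_ones, Finset.card_univ,
    ← Nat.card_eq_fintype_card, ← K.index_mul_card, Nat.cast_mul]
  have hN' : (Nat.card K : ℂ) ≠ 0 := Nat.cast_ne_zero.2 Nat.card_pos.ne'
  have hI : (K.index : ℂ) ≠ 0 := Nat.cast_ne_zero.2 Subgroup.index_ne_zero_of_finite
  show _ = ∑ c : K, sec y (Subgroup.centralizer ({y} : Set G)) (χ : G → ℂ) c
  field_simp

theorem card_regC_ne (hp : p.Prime) (y : G) : ((regC p y).card : ℂ) ≠ 0 :=
  Nat.cast_ne_zero.2 (Finset.card_pos.2 ⟨1, one_mem_regC hp y⟩).ne'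

theorem section_const (hM : IsPModular p M) {y : G} (hy : ∃ k, orderOf y = p ^ k)
    (K : Subgroup (Subgroup.centralizer ({y} : Set G))) [K.Normal] (hK : ¬ p ∣ Nat.card K) {k : ℕ}
    (hidx : K.index = p ^ k) {χ : IrrCharacter G} (hχ : χ ∈ principalBlock M G) {v : G}
    (hv : v ∈ regC p y) : (χ : G → ℂ) (y * v) = (χ : G → ℂ) y := by
  have h1 := section_key hM hy K hK hidx χ hv
  have h2 := section_key hM hy K hK hidx χ (one_mem_regC hM.1 y)
  rw [← h2, ind_of_mem hχ, one_mul, one_mul, mul_one] at h1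
  exact mul_left_cancel₀ (card_regC_ne hM.1 y) h1

/-- The squared length of the column of the principal block at such an element. -/
theorem section_norm (hM : IsPModular p M) {y : G} (hy : ∃ k, orderOf y = p ^ k)
    (K : Subgroup (Subgroup.centralizer ({y} : Set G))) [K.Normal] (hK : ¬ p ∣ Nat.card K) {k : ℕ}
    (hidx : K.index = p ^ k) :
    ∑ χ ∈ bset (principalBlock M G), (χ : G → ℂ) y * conj ((χ : G → ℂ) y) = (K.index : ℂ) := by
  classical
  have hsum : ∀ χ : IrrCharacter G, ∑ w ∈ regC p y, (χ : G → ℂ) (y * w) * conj ((χ : G → ℂ) y) =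
      ((regC p y).card : ℂ) *
        (if χ ∈ bset (principalBlock M G) then (χ : G → ℂ) y * conj ((χ : G → ℂ) y) else 0) := by
    intro χ
    rw [← Finset.sum_mul, ← section_key hM hy K hK hidx χ (one_mem_regC hM.1 y), mul_one]
    by_cases h : χ ∈ principalBlock M G
    · rw [ind_of_mem h, if_pos (mem_bset.2 h)]; ring
    · rw [ind_of_notMem h, if_neg (fun h' => h (mem_bset.1 h'))]; ring
  have hone : ∀ w ∈ regC p y, IsConj (y * w) y → w = 1 := by
    intro w hw hc
    obtain ⟨g, hg⟩ := isConj_iff.1 hc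
    obtain ⟨hwc, hwr⟩ := mem_regC.1 hw
    have e : g * y * g⁻¹ * (g * w * g⁻¹) = y * 1 := by
      rw [mul_one, show g * y * g⁻¹ * (g * w * g⁻¹) = g * (y * w) * g⁻¹ by group, hg]
    have h := (pPart_unique hM.1 ((Commute.conj_iff g).2 hwc.symm) (Commute.one_right y)
      (by obtain ⟨j, hj⟩ := hy; exact ⟨j, by rw [conj_orderOf, hj]⟩) hy
      (by rwa [conj_orderOf]) (by simp [hM.1.ne_one]) e).2
    exact conj_eq_one_iff.1 h
  have h1 : ∑ χ : IrrCharacter G, ∑ w ∈ regC p y, (χ : G → ℂ) (y * w) * conj ((χ : G → ℂ) y) =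
      (Nat.card (Subgroup.centralizer ({y} : Set G)) : ℂ) := by
    rw [Finset.sum_comm, Finset.sum_congr rfl fun w hw => sum_irr_mul_conj (y * w) y,
      Finset.sum_eq_single_of_mem 1 (one_mem_regC hM.1 y)
      fun w hw hw1 => if_neg fun e => hw1 (hone w hw e), mul_one, if_pos (IsConj.refl y)]
  rw [Finset.sum_congr rfl fun χ _ => hsum χ, ← Finset.mul_sum, ← Finset.sum_filter,
    ← K.index_mul_card, Nat.cast_mul] at h1
  have hcard : ((regC p y).card : ℂ) = (Nat.card K : ℂ) := by
    rw [Finset.card_eq_sum_ones, sum_regC hM.1 hK hidx, ← Finset.card_eq_sum_ones,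
      Finset.card_univ, Nat.card_eq_fintype_card]
  rw [hcard, mul_comm (K.index : ℂ)] at h1
  have hne : (Nat.card K : ℂ) ≠ 0 := Nat.cast_ne_zero.2 Nat.card_pos.ne'
  have h2 := mul_left_cancel₀ hne h1
  exact (Finset.sum_congr (by ext; simp) fun _ _ => rfl).trans h2

end CfsgLib.Blocks.Dihedral
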