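import Mathlib

/-!
# The integral columns of a principal block with dihedral defect group
-/

namespace CfsgLib.Blocks.Dihedral

set_option linter.unusedVariables false

theorem unit_of_norm_le {ι : Type*} [Fintype ι] (f : ι → ℤ) (h : ∑ i, f i * f i ≤ 4)
    (hne : ∀ i, f i * f i ≠ 4) : ∀ i, f i ≠ 0 → f i * f i = 1 := by
  intro i hi
  have h1 : f i * f i ≤ 4 :=
    (Finset.single_le_sum (fun j _ => mul_self_nonneg (f j)) (Finset.mem_univ i)).trans h
  have h2 := hne i
  have h3 : -2 ≤ f i ∧ f i ≤ 2 := ⟨by nlinarith, by nlinarith⟩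
  rcases h3 with ⟨ha, hb⟩
  interval_cases (f i) <;> simp_all

theorem sum_sq_eq_card {ι : Type*} [DecidableEq ι] (s : Finset ι) (f : ι → ℤ)
    (h : ∀ i, f i ≠ 0 → f i * f i = 1) :
    ∑ i ∈ s, f i * f i = ((s.filter fun i => f i ≠ 0).card : ℤ) := by
  rw [← Finset.sum_filter_of_ne (p := fun i => f i ≠ 0) (fun i _ hi e => hi (by simp [e])),
    Finset.card_eq_sum_ones, Nat.cast_sum]
  exact Finset.sum_congr rfl fun i hi => by simpa using h i (Finset.mem_filter.1 hi).2

theorem units {a : ℤ} (h : a * a = 1) : a = 1 ∨ a = -1 :=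
  mul_self_eq_one_iff.1 h

/-- The shape of the columns. -/
structure Shape {ι κ : Type*} (o : ι) (X : ι → ℤ) (Y : κ → ι → ℤ) (U V W : ι) (s : κ → ι)
    (eU eV eW : ℤ) : Prop where
  uU : eU = 1 ∨ eU = -1
  uV : eV = 1 ∨ eV = -1
  uW : eW = 1 ∨ eW = -1
  inj : Function.Injective s
  oU : o ≠ U
  oV : o ≠ V
  oW : o ≠ W
  UV : U ≠ V
  UW : U ≠ W
  VW : V ≠ W
  sne : ∀ j, s j ≠ o ∧ s j ≠ U ∧ s j ≠ V ∧ s j ≠ W
  cover : ∀ i, i = o ∨ i = U ∨ i = V ∨ i = W ∨ ∃ j, i = s j
  xo : X o = 1
  xU : X U = eU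
  xV : X V = eV
  xW : X W = eW
  xs : ∀ j, X (s j) = 0
  yo : ∀ j, Y j o = 0
  yU : ∀ j, Y j U = eU
  yV : ∀ j, Y j V = eV
  yW : ∀ j, Y j W = 0
  ys : ∀ j, Y j (s j) = eW
  ys' : ∀ j k, j ≠ k → Y j (s k) = 0

variable {ι κ : Type*} [Fintype ι] [DecidableEq ι] [Fintype κ] [DecidableEq κ]
  (o : ι) (X : ι → ℤ) (Y : κ → ι → ℤ) (d : ι → ℤ)

omit [DecidableEq κ] in
/-- One column of norm three against the column of norm four. -/
theorem column (T : Finset ι) (hTo : o ∉ T) (hT : T.card = 3) (hX1 : ∀ i ∈ T, X i * X i = 1)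
    (hXo : ∀ i, i ∉ T → i ≠ o → X i = 0) (y : ι → ℤ) (hy : ∑ i, y i * y i = 3) (hyo : y o = 0)
    (hxy : ∑ i, X i * y i = 2) :
    ∃ (w s : ι) (f : ℤ), (f = 1 ∨ f = -1) ∧ w ∈ T ∧ s ∉ T ∧ s ≠ o ∧ y w = 0 ∧ y s = f ∧
      (∀ i ∈ T, i ≠ w → y i = X i) ∧ ∀ i, i ∉ T → i ≠ s → y i = 0 := by
  have hu : ∀ i, y i ≠ 0 → y i * y i = 1 := unit_of_norm_le y (by omega) fun i e => by
    have := Finset.single_le_sum (f := fun j => y j * y j) (fun j _ => mul_self_nonneg (y j))
      (Finset.mem_univ i)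
    simp only [e, hy] at this
    omega
  set S := Finset.univ.filter fun i => y i ≠ 0 with hS
  have hSc : S.card = 3 := by
    have := sum_sq_eq_card Finset.univ y hu
    rw [hy, ← hS] at this
    omega
  set Q := T.filter fun i => y i ≠ 0 with hQ
  have h2 : ∑ i ∈ Q, X i * y i = 2 := by
    rw [← hxy]
    refine Finset.sum_subset (Finset.subset_univ _) fun i _ hi => ?_
    by_cases ho : i = o
    · rw [ho, hyo, mul_zero]
    by_cases hiT : i ∈ T
    · have : y i = 0 := by
        by_contra h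
        exact hi (Finset.mem_filter.2 ⟨hiT, h⟩)
      rw [this, mul_zero]
    · rw [hXo i hiT ho, zero_mul]
  have hpm : ∀ i ∈ Q, X i * y i = 1 ∨ X i * y i = -1 := fun i hi => by
    obtain ⟨hiT, hi0⟩ := Finset.mem_filter.1 hi
    exact units (by rw [mul_mul_mul_comm, hX1 i hiT, hu i hi0, mul_one])
  have hle : ∀ i ∈ Q, X i * y i ≤ 1 := fun i hi => by rcases hpm i hi with e | e <;> omega
  have hQ3 : Q.card ≤ 3 := hT ▸ Finset.card_filter_le _ _
  have hQc : Q.card = 2 := by
    rcases (show Q.card ≤ 1 ∨ Q.card = 2 ∨ Q.card = 3 by omega) with h | h | h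
    · have := Finset.sum_le_card_nsmul Q _ 1 hle
      rw [h2, nsmul_eq_mul, mul_one] at this
      omega
    · exact h
    · exfalso
      obtain ⟨a, b, c, hab, hac, hbc, e⟩ := Finset.card_eq_three.1 h
      rw [e] at h2 hpm
      rw [Finset.sum_insert (by simp [hab, hac]), Finset.sum_pair hbc] at h2
      rcases hpm a (by simp) with e1 | e1 <;> rcases hpm b (by simp) with e2 | e2 <;>
        rcases hpm c (by simp) with e3 | e3 <;> omega
  have hQone : ∀ i ∈ Q, X i * y i = 1 := by
    intro i hi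
    rcases hpm i hi with e | e
    · exact e
    · exfalso
      rw [← Finset.add_sum_erase Q _ hi, e] at h2
      have := Finset.sum_le_card_nsmul (Q.erase i) _ 1 fun j hj => hle j (Finset.mem_of_mem_erase hj)
      rw [Finset.card_erase_of_mem hi, hQc, nsmul_eq_mul, mul_one] at this
      omega
  have hw : (T.filter fun i => ¬ y i ≠ 0).card = 1 := by
    have := Finset.card_filter_add_card_filter_not (s := T) fun i => y i ≠ 0
    rw [← hQ] at this
    omega
  obtain ⟨w, hw⟩ := Finset.card_eq_one.1 hw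
  have hs : (S.filter fun i => ¬ i ∈ T).card = 1 := by
    have h := Finset.card_filter_add_card_filter_not (s := S) fun i => i ∈ T
    have : (S.filter fun i => i ∈ T) = Q := by ext i; simp [hS, hQ, and_comm]
    rw [this] at h
    omega
  obtain ⟨s, hs⟩ := Finset.card_eq_one.1 hs
  have hwm : w ∈ T.filter fun i => ¬ y i ≠ 0 := hw ▸ Finset.mem_singleton_self w
  have hsm : s ∈ S.filter fun i => ¬ i ∈ T := hs ▸ Finset.mem_singleton_self s
  obtain ⟨hwT, hw0⟩ := Finset.mem_filter.1 hwm
  obtain ⟨hsS, hsT⟩ := Finset.mem_filter.1 hsm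
  have hs0 : y s ≠ 0 := (Finset.mem_filter.1 hsS).2
  refine ⟨w, s, y s, units (hu s hs0), hwT, hsT, fun e => hs0 (e ▸ hyo), not_not.1 hw0, rfl,
    fun i hi hiw => ?_, fun i hi his => ?_⟩
  · have h0 : y i ≠ 0 := fun e => hiw (Finset.mem_singleton.1
      (hw ▸ Finset.mem_filter.2 ⟨hi, not_not.2 e⟩))
    have := hQone i (Finset.mem_filter.2 ⟨hi, h0⟩)
    calc y i = X i * X i * y i := by rw [hX1 i hi, one_mul]
      _ = X i * (X i * y i) := by ring
      _ = X i := by rw [this, mul_one]
  · by_contra h0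
    exact his (Finset.mem_singleton.1
      (hs ▸ Finset.mem_filter.2 ⟨Finset.mem_filter.2 ⟨Finset.mem_univ _, h0⟩, hi⟩))

theorem exists_shape (hd : ∀ i, 1 ≤ d i) (hdo : d o = 1) (hκ : Odd (Fintype.card κ))
    (hXo : X o = 1) (hYo : ∀ j, Y j o = 0) (hXX : ∑ i, X i * X i = 4)
    (hXY : ∀ j, ∑ i, X i * Y j i = 2)
    (hYY : ∀ j k, ∑ i, Y j i * Y k i = if j = k then 3 else 2)
    (hXd : ∑ i, X i * d i = 0) (hYd : ∀ j, ∑ i, Y j i * d i = 0)
    (hrow : ∀ i, X i ≠ 0 ∨ ∃ j, Y j i ≠ 0) :
    ∃ (U V W : ι) (s : κ → ι) (eU eV eW : ℤ), Shape o X Y U V W s eU eV eW := by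
  have hu : ∀ i, X i ≠ 0 → X i * X i = 1 := unit_of_norm_le X hXX.le fun i e => by
    by_cases hi : i = o
    · rw [hi, hXo] at e
      omega
    · have := Finset.add_le_sum (f := fun j => X j * X j) (fun j _ => mul_self_nonneg (X j))
        (Finset.mem_univ i) (Finset.mem_univ o) hi
      simp only [e, hXo, hXX] at this
      omega
  set T := (Finset.univ.erase o).filter fun i => X i ≠ 0 with hTdef
  have hT : T.card = 3 := by
    have h := sum_sq_eq_card (Finset.univ.erase o) X hu
    have h' := hXX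
    rw [← Finset.add_sum_erase _ _ (Finset.mem_univ o), hXo] at h'
    rw [← hTdef] at h
    omega
  have hTo : o ∉ T := by simp [hTdef]
  have hXT : ∀ i, i ∉ T → i ≠ o → X i = 0 := fun i hi ho => by
    by_contra h
    exact hi (Finset.mem_filter.2 ⟨Finset.mem_erase.2 ⟨ho, Finset.mem_univ _⟩, h⟩)
  have hX1 : ∀ i ∈ T, X i * X i = 1 := fun i hi => hu i (Finset.mem_filter.1 hi).2
  choose w s f hf hwT hsT hso hw0 hsf hTy houtside using fun j =>
    column o X T hTo hT hX1 hXT (Y j) (by simpa using hYY j j) (hYo j) (hXY j)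
  -- the products of two columns
  have hprod : ∀ j k, ∑ i, Y j i * Y k i =
      (((T.erase (w j)).erase (w k)).card : ℤ) + if s j = s k then f j * f k else 0 := by
    intro j k
    have hsplit : ∀ i, Y j i * Y k i = (if i ∈ (T.erase (w j)).erase (w k) then 1 else 0) +
        if i = s j then (if s j = s k then f j * f k else 0) else 0 := by
      intro i
      by_cases hi : i ∈ T
      · rw [if_neg (fun e : i = s j => hsT j (e ▸ hi)), add_zero]
        by_cases h1 : i = w j
        · rw [if_neg (by simp [h1]), h1, hw0, zero_mul]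
        by_cases h2 : i = w k
        · rw [if_neg (by simp [h2]), h2, hw0, mul_zero]
        rw [if_pos (by simp [h1, h2, hi]), hTy j i hi h1, hTy k i hi h2, hX1 i hi]
      · rw [if_neg (by simp [hi]), zero_add]
        by_cases h1 : i = s j
        · rw [if_pos h1]
          by_cases h2 : s j = s k
          · rw [if_pos h2, h1, hsf, h2, hsf]
          · rw [if_neg h2, h1, houtside k _ (hsT j) h2, mul_zero]
        · rw [if_neg h1, houtside j i hi h1, zero_mul]
    rw [Finset.sum_congr rfl fun i _ => hsplit i, Finset.sum_add_distrib, Finset.sum_boole,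
      Finset.sum_ite_eq' Finset.univ (s j), if_pos (Finset.mem_univ _)]
    congr 2
    exact congrArg Finset.card (by ext i; simp)
  have hsame : ∀ j k, j ≠ k → w j = w k → s j ≠ s k := by
    intro j k hjk e es
    have := hprod j k
    rw [hYY, if_neg hjk, if_pos es, e, Finset.erase_idem, Finset.card_erase_of_mem (hwT k), hT]
      at this
    rcases hf j with a | a <;> rcases hf k with b | b <;> rw [a, b] at this <;> omega
  have hdiff : ∀ j k, w j ≠ w k → s j = s k ∧ f j = f k := by
    intro j k e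
    have hjk : j ≠ k := fun h => e (h ▸ rfl)
    have := hprod j k
    rw [hYY, if_neg hjk, Finset.card_erase_of_mem (Finset.mem_erase.2 ⟨Ne.symm e, hwT k⟩),
      Finset.card_erase_of_mem (hwT j), hT] at this
    split_ifs at this with h
    · refine ⟨h, ?_⟩
      rcases hf j with a | a <;> rcases hf k with b | b <;> rw [a, b] at this ⊢ <;> omega
    · omega
  -- the degrees
  have hdX : 1 + ∑ i ∈ T, X i * d i = 0 := by
    rw [← hXd, ← Finset.add_sum_erase _ _ (Finset.mem_univ o), hXo, hdo, mul_one]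
    congr 1
    refine Finset.sum_subset (Finset.filter_subset _ _) fun i hi hiT => ?_
    rw [hXT i hiT (Finset.ne_of_mem_erase hi), zero_mul]
  have hdY : ∀ j, (∑ i ∈ T.erase (w j), X i * d i) + f j * d (s j) = 0 := by
    intro j
    rw [← hYd j, ← Finset.sum_filter_add_sum_filter_not Finset.univ (fun i => i ∈ T.erase (w j))
      (fun i => Y j i * d i)]
    congr 1
    · refine Finset.sum_congr (by ext i; simp) fun i hi => ?_
      simp only [Finset.mem_filter, Finset.mem_univ, true_and, Finset.mem_erase] at hi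
      rw [hTy j i hi.2 hi.1]
    · rw [Finset.sum_eq_single (s j) (fun i hi his => ?_) (fun h => absurd ?_ h), hsf]
      · by_cases hiT : i ∈ T
        · simp only [Finset.mem_filter, Finset.mem_erase, hiT, and_true, not_not] at hi
          rw [hi.2, hw0, zero_mul]
        · rw [houtside j i hiT his, zero_mul]
      · simp [hsT j]
  have ht : ∀ j, X (w j) * d (w j) = f j * d (s j) - 1 := fun j => by
    have h1 := hdX
    rw [← Finset.add_sum_erase T (fun i => X i * d i) (hwT j)] at h1
    linarith [hdY j]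
  have hne : Nonempty κ := Fintype.card_pos_iff.1 hκ.pos
  obtain ⟨j₀⟩ := hne
  have hconst : ∀ j, w j = w j₀ := by
    by_contra hh
    push Not at hh
    obtain ⟨j₁, h10⟩ := hh
    have hwinj : Function.Injective w := by
      intro i k e
      by_contra hik
      obtain ⟨l, hl⟩ : ∃ l, w l ≠ w i := by
        by_cases h : w i = w j₀
        · exact ⟨j₁, h ▸ h10⟩
        · exact ⟨j₀, Ne.symm h⟩
      exact hsame i k hik e (((hdiff l i hl).1.symm).trans (hdiff l k (e ▸ hl)).1)
    have hcard : Fintype.card κ ≤ 3 := by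
      rw [← hT, ← Finset.card_univ]
      exact Finset.card_le_card_of_injOn w (fun j _ => hwT j) hwinj.injOn
    have h2 : 2 ≤ Fintype.card κ := Fintype.one_lt_card_iff.2 ⟨j₁, j₀, fun e => h10 (e ▸ rfl)⟩
    have h3 : Fintype.card κ = 3 := by obtain ⟨t, ht'⟩ := hκ; omega
    have himg : Finset.univ.image w = T := Finset.eq_of_subset_of_card_le
      (fun i hi => by obtain ⟨j, -, rfl⟩ := Finset.mem_image.1 hi; exact hwT j)
      (by rw [Finset.card_image_of_injective _ hwinj, Finset.card_univ, h3, hT])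
    have hall : ∀ j, X (w j) * d (w j) = f j₀ * d (s j₀) - 1 := by
      intro j
      rw [ht]
      by_cases e : j = j₀
      · rw [e]
      · obtain ⟨e1, e2⟩ := hdiff j j₀ (hwinj.ne e)
        rw [e1, e2]
    rw [← himg, Finset.sum_image hwinj.injOn, Finset.sum_congr rfl fun j _ => hall j,
      Finset.sum_const, Finset.card_univ, h3, nsmul_eq_mul] at hdX
    push_cast at hdX
    omega
  obtain ⟨U, V, hUV, hUVe⟩ := Finset.card_eq_two.1
    (show (T.erase (w j₀)).card = 2 by rw [Finset.card_erase_of_mem (hwT j₀), hT])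
  have hUm : U ∈ T.erase (w j₀) := hUVe ▸ Finset.mem_insert_self _ _
  have hVm : V ∈ T.erase (w j₀) := hUVe ▸ Finset.mem_insert_of_mem (Finset.mem_singleton_self _)
  obtain ⟨hUw, hUT⟩ := Finset.mem_erase.1 hUm
  obtain ⟨hVw, hVT⟩ := Finset.mem_erase.1 hVm
  have hsinj : Function.Injective s := fun j k e => by
    by_contra h
    exact hsame j k h ((hconst j).trans (hconst k).symm) e
  have hfW : ∀ j, f j = X (w j₀) := by
    intro j
    have h1 := ht j
    rw [hconst] at h1
    rcases units (hX1 _ (hwT j₀)) with a | a <;> rcases hf j with b | b <;> rw [a, b] at h1 ⊢ <;>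
      linarith [hd (s j), hd (w j₀)]
  refine ⟨U, V, w j₀, s, X U, X V, X (w j₀),
    { uU := units (hX1 U hUT), uV := units (hX1 V hVT), uW := units (hX1 _ (hwT j₀))
      inj := hsinj
      oU := fun e => hTo (e ▸ hUT), oV := fun e => hTo (e ▸ hVT)
      oW := fun e => hTo (e ▸ hwT j₀)
      UV := hUV, UW := hUw, VW := hVw
      sne := fun j => ⟨hso j, fun e => hsT j (e ▸ hUT), fun e => hsT j (e ▸ hVT),
        fun e => hsT j (e ▸ hwT j₀)⟩
      cover := ?_
      xo := hXo, xU := rfl, xV := rfl, xW := rfl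
      xs := fun j => hXT _ (hsT j) (hso j)
      yo := hYo
      yU := fun j => hTy j U hUT (hconst j ▸ hUw)
      yV := fun j => hTy j V hVT (hconst j ▸ hVw)
      yW := fun j => hconst j ▸ hw0 j
      ys := fun j => (hsf j).trans (hfW j)
      ys' := fun j k hjk => houtside j _ (hsT k) (hsinj.ne hjk.symm) }⟩
  intro i
  by_cases ho : i = o
  · exact Or.inl ho
  by_cases hiT : i ∈ T
  · by_cases hiw : i = w j₀
    · exact Or.inr (Or.inr (Or.inr (Or.inl hiw)))
    · have : i ∈ T.erase (w j₀) := Finset.mem_erase.2 ⟨hiw, hiT⟩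
      rw [hUVe, Finset.mem_insert, Finset.mem_singleton] at this
      rcases this with e | e
      · exact Or.inr (Or.inl e)
      · exact Or.inr (Or.inr (Or.inl e))
  · obtain ⟨j, hj⟩ := (hrow i).resolve_left (not_not.2 (hXT i hiT ho))
    refine Or.inr (Or.inr (Or.inr (Or.inr ⟨j, ?_⟩)))
    by_contra h
    exact hj (houtside j i hiT h)

end CfsgLib.Blocks.Dihedral
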