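import Cfsg.Agent.Lib.Blocks.Dihedral.Setup
import Cfsg.Agent.Lib.Blocks.Dihedral.Section
import Cfsg.Agent.Lib.Blocks.Dihedral.Columns
import Cfsg.Agent.Lib.Blocks.Dihedral.Fourier
import Cfsg.Agent.Lib.Blocks.MajorValue
import Cfsg.Agent.S4652

/-!
# The principal 2-block with dihedral defect group
-/

namespace CfsgLib.Blocks.Dihedral

open Cfsg CfsgLib.CharTheory CfsgLib.Blocks.AbelianFree
open scoped ComplexConjugate

set_option linter.unusedVariables false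
set_option linter.unusedSectionVars false
set_option linter.style.haveILetI false

universe u

variable {G : Type u} [Group G] [Fintype G] {P : Sylow 2 G} {σ : G} {h : ℕ} {M : Ideal AlgInt}

theorem Dih.pow_mem (hh : Dih P σ h) (l : ℕ) :
    σ ^ l ∈ Subgroup.zpowers σ ∧ ∃ k, orderOf (σ ^ l) = 2 ^ k := by
  refine ⟨Subgroup.npow_mem_zpowers σ l, ?_⟩
  obtain ⟨k, hk⟩ := hh.ord_pow
  exact ((Nat.dvd_prime_pow Nat.prime_two).1 (hk ▸ hh.ord ▸ orderOf_pow_dvd l)).imp fun i hi => hi.2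

theorem Dih.pow_ne_one (hh : Dih P σ h) {l : ℕ} (h0 : 0 < l) (hl : l < 2 * h) : σ ^ l ≠ 1 :=
  fun e => by
    have := Nat.le_of_dvd h0 (orderOf_dvd_of_pow_eq_one e)
    rw [hh.ord] at this
    omega

theorem Dih.pow_inj (hh : Dih P σ h) {l m : ℕ} (hl : l < 2 * h) (hm : m < 2 * h)
    (e : σ ^ l = σ ^ m) : l = m :=
  pow_injOn_Iio_orderOf (by rw [Set.mem_Iio, hh.ord]; exact hl) (by rw [Set.mem_Iio, hh.ord]; exact hm) e

theorem Dih.pow_sub' (hh : Dih P σ h) {l : ℕ} (hl : l ≤ 2 * h) : σ ^ (2 * h - l) = (σ ^ l)⁻¹ := by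
  refine (eq_inv_of_mul_eq_one_left ?_)
  rw [← pow_add, Nat.sub_add_cancel hl, ← hh.ord, pow_orderOf_eq_one]

theorem Dih.value_inv (hh : Dih P σ h) (χ : IrrCharacter G) (l : ℕ) :
    (χ : G → ℂ) (σ ^ l)⁻¹ = (χ : G → ℂ) (σ ^ l) := by
  obtain ⟨g, hg⟩ := isConj_iff.1 (hh.conj_inv (hh.pow_mem l).1)
  rw [← hg]
  exact isClassFunction_irr χ.2 _ g

theorem Dih.value_real (hh : Dih P σ h) (χ : IrrCharacter G) (l : ℕ) :
    conj ((χ : G → ℂ) (σ ^ l)) = (χ : G → ℂ) (σ ^ l) := by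
  rw [← char_apply_inv (isCharacter_of_irr χ.2), hh.value_inv]

/-- The orthogonality relations of the columns at the rotations. -/
theorem Dih.orth (hM : IsPModular 2 M) (hh : Dih P σ h) {l m : ℕ} (hl0 : 0 < l) (hl : l < 2 * h)
    (hm0 : 0 < m) (hm : m < 2 * h) :
    ∑ χ ∈ bset (principalBlock M G), (χ : G → ℂ) (σ ^ l) * conj ((χ : G → ℂ) (σ ^ m)) =
      ((2 * h : ℕ) : ℂ) * ((if m = l then 1 else 0) + if m = 2 * h - l then 1 else 0) := by
  classical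
  obtain ⟨hlm, kl, hkl⟩ := hh.pow_mem l
  obtain ⟨hmm, km, hkm⟩ := hh.pow_mem m
  by_cases hc : IsConj (σ ^ l) (σ ^ m)
  · have hcase : m = l ∨ m = 2 * h - l := by
      rcases hh.fusion hlm hmm (hh.pow_ne_one hl0 hl) hc with e | e
      · exact Or.inl (hh.pow_inj hm hl e)
      · exact Or.inr (hh.pow_inj hm (by omega) (e.trans (hh.pow_sub' hl.le).symm))
    have hval : ∀ χ : IrrCharacter G, (χ : G → ℂ) (σ ^ m) = (χ : G → ℂ) (σ ^ l) := by
      intro χ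
      rcases hcase with e | e
      · rw [e]
      · rw [e, hh.pow_sub' hl.le, hh.value_inv]
    simp only [hval]
    obtain ⟨k, hk⟩ := hh.ord_pow
    by_cases hlh : l = h
    · have hmh : m = h := by omega
      obtain ⟨K, hKn, hK, hidx⟩ := hh.complement_z
      haveI := hKn
      rw [hlh] at hkl ⊢
      rw [section_norm hM ⟨kl, hkl⟩ K hK (k := k + 1) (by rw [hidx, hk]; ring), hidx,
        if_pos hmh, if_pos (by omega)]
      push_cast
      ring
    · have h2 : σ ^ l * σ ^ l ≠ 1 := fun e => by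
        rcases hh.sq_eq_one hlm e with e' | e'
        · exact hh.pow_ne_one hl0 hl e'
        · exact hlh (hh.pow_inj hl (by omega) e')
      obtain ⟨K, hKn, hK, hidx⟩ := hh.complement_rot hlm h2
      haveI := hKn
      rw [section_norm hM ⟨kl, hkl⟩ K hK (hidx.trans hk), hidx]
      rcases hcase with e | e
      · rw [if_pos e, if_neg (by omega)]; ring
      · rw [if_neg (by omega), if_pos e]; ring
  · have h1 : m ≠ l := fun e => hc (e ▸ IsConj.refl _)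
    have h2 : m ≠ 2 * h - l := fun e => hc (by
      rw [e, hh.pow_sub' hl.le]; exact hh.conj_inv hlm)
    rw [if_neg h1, if_neg h2, add_zero, mul_zero,
      Finset.sum_congr rfl fun χ _ => by rw [← char_apply_inv (isCharacter_of_irr χ.2)]]
    exact block_orth hM principalBlock_isPBlock
      ⟨1, mul_one _, Commute.one_right _, ⟨kl, hkl⟩, by simp⟩
      ⟨1, mul_one _, Commute.one_right _, ⟨km, hkm⟩, by simp⟩ hc

theorem Dih.orth_regular (hM : IsPModular 2 M) (hh : Dih P σ h) {l : ℕ} (hl0 : 0 < l)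
    (hl : l < 2 * h) {s : G} (hs : ¬ 2 ∣ orderOf s) :
    ∑ χ ∈ bset (principalBlock M G), (χ : G → ℂ) (σ ^ l) * (χ : G → ℂ) s = 0 := by
  obtain ⟨hlm, kl, hkl⟩ := hh.pow_mem l
  have hne : ¬ IsConj (σ ^ l) (1 : G) := fun e =>
    hh.pow_ne_one hl0 hl (isConj_one_left.1 e)
  have := block_orth (g := σ ^ l) (h := s⁻¹) hM principalBlock_isPBlock
    ⟨1, mul_one _, Commute.one_right _, ⟨kl, hkl⟩, by simp⟩
    ⟨s⁻¹, one_mul _, Commute.one_left _, ⟨0, by simp⟩, by rwa [orderOf_inv]⟩ hne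
  simpa using this

theorem Dih.central_ne_zero (hM : IsPModular 2 M) (hh : Dih P σ h) {χ : IrrCharacter G}
    (hχ : χ ∈ principalBlock M G) : (χ : G → ℂ) (σ ^ h) ≠ 0 := by
  haveI : Fact (Nat.Prime 2) := ⟨Nat.prime_two⟩
  obtain ⟨-, kh, hkh⟩ := hh.pow_mem h
  obtain ⟨c, hc, hcr, hne⟩ := exists_major_value_ne_zero hM principalBlock_isPBlock
    ((Cfsg.Agent.S4652.result 2 M hM (P : Subgroup G)).2 ⟨P, rfl⟩)
    (hh.zle (Subgroup.npow_mem_zpowers σ h)) (fun d hd => (hh.z_central hd).eq) hχ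
  obtain ⟨K, hKn, hK, hidx⟩ := hh.complement_z
  haveI := hKn
  obtain ⟨k, hk⟩ := hh.ord_pow
  rw [section_const hM ⟨kh, hkh⟩ K hK (k := k + 1) (by rw [hidx, hk]; ring) hχ
    (mem_regC.2 ⟨hc, hcr⟩)] at hne
  exact hne

/-- The function of `i` and `l` giving the coefficient of the `i`-th column. -/
noncomputable def kerF (h : ℕ) (ζ : ℂ) (i l : ℕ) : ℂ := (ζ ^ (2 * h - i)) ^ l - (ζ ^ h) ^ l

/-- Its conjugate. -/
noncomputable def kerC (h : ℕ) (ζ : ℂ) (i l : ℕ) : ℂ := (ζ ^ i) ^ l - (ζ ^ h) ^ l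

/-- The `i`-th column. -/
noncomputable def colC (h : ℕ) (ζ : ℂ) (σ : G) (f : G → ℂ) (i : ℕ) : ℂ :=
  coef (2 * h) ζ σ f i - coef (2 * h) ζ σ f h

theorem colC_eq (h : ℕ) (ζ : ℂ) (σ : G) (f : G → ℂ) (i : ℕ) :
    colC h ζ σ f i =
      ((2 * h : ℕ) : ℂ)⁻¹ * ∑ l ∈ Finset.range (2 * h), f (σ ^ l) * kerF h ζ i l := by
  rw [colC, coef, coef, ← mul_sub, ← Finset.sum_sub_distrib, show 2 * h - h = h by omega]
  exact congrArg _ (Finset.sum_congr rfl fun l _ => (mul_sub _ _ _).symm)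

theorem kerC_reflect {ζ : ℂ} (hζ : IsPrimitiveRoot ζ (2 * h)) (hN : 2 * h ≠ 0) {k l : ℕ}
    (hk : k ≤ 2 * h) (hl : l ≤ 2 * h) :
    kerC h ζ k (2 * h - l) = (ζ ^ (2 * h - k)) ^ l - (ζ ^ h) ^ l := by
  have e : ∀ k ≤ 2 * h, (ζ ^ k) ^ (2 * h - l) = (ζ ^ (2 * h - k)) ^ l := fun k hk => by
    rw [← pow_mul, mul_comm, pow_mul, ← flip_pow hζ hN hk hl]
  rw [kerC, e k hk, e h (by omega), show 2 * h - h = h by omega]

theorem kerF_zero (ζ : ℂ) (i : ℕ) : kerF h ζ i 0 = 0 := by simp [kerF]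

theorem kerC_zero (ζ : ℂ) (i : ℕ) : kerC h ζ i 0 = 0 := by simp [kerC]

theorem kerC_top {ζ : ℂ} (hζ : IsPrimitiveRoot ζ (2 * h)) (i : ℕ) : kerC h ζ i (2 * h) = 0 := by
  have e : ∀ j, (ζ ^ j) ^ (2 * h) = 1 := fun j => by
    rw [← pow_mul, mul_comm, pow_mul, hζ.pow_eq_one, one_pow]
  rw [kerC, e, e, sub_self]

theorem ker_sum {ζ : ℂ} (hζ : IsPrimitiveRoot ζ (2 * h)) {i k : ℕ} (hi : i < h) (hk : k < h) :
    ∑ l ∈ Finset.range (2 * h), kerF h ζ i l * (kerC h ζ k l + kerC h ζ k (2 * h - l)) =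
      ((2 * h : ℕ) : ℂ) *
        ((if i = k then 1 else 0) + (if i = 0 ∧ k = 0 then 1 else 0) + 2) := by
  have e : ∀ l ∈ Finset.range (2 * h), kerF h ζ i l * (kerC h ζ k l + kerC h ζ k (2 * h - l)) =
      (ζ ^ (2 * h - i + k)) ^ l + (ζ ^ (2 * h - i + (2 * h - k))) ^ l -
        2 * (ζ ^ (2 * h - i + h)) ^ l - (ζ ^ (h + k)) ^ l - (ζ ^ (h + (2 * h - k))) ^ l +
        2 * (ζ ^ (h + h)) ^ l := by
    intro l hl
    rw [kerC_reflect hζ (by omega) (by omega) (Finset.mem_range.1 hl).le, kerF, kerC]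
    simp only [pow_add, mul_pow]
    ring
  rw [Finset.sum_congr rfl e]
  simp only [Finset.sum_sub_distrib, Finset.sum_add_distrib, ← Finset.mul_sum, root_sum hζ]
  rw [if_neg (fun d : 2 * h ∣ 2 * h - i + h => by rw [dvd_small (by omega)] at d; omega),
    if_neg (fun d : 2 * h ∣ h + k => by rw [dvd_small (by omega)] at d; omega),
    if_neg (fun d : 2 * h ∣ h + (2 * h - k) => by rw [dvd_small (by omega)] at d; omega),
    if_pos (show 2 * h ∣ h + h from dvd_of_eq (two_mul h)),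
    if_congr (show 2 * h ∣ 2 * h - i + k ↔ i = k by rw [dvd_small (by omega)]; omega) rfl rfl,
    if_congr (show 2 * h ∣ 2 * h - i + (2 * h - k) ↔ i = 0 ∧ k = 0 by
      rw [dvd_small (by omega)]; omega) rfl rfl]
  split_ifs <;> push_cast <;> ring

/-- The Gram matrix of the columns. -/
theorem Dih.gram (hM : IsPModular 2 M) (hh : Dih P σ h) {ζ : ℂ}
    (hζ : IsPrimitiveRoot ζ (2 * h)) {i k : ℕ} (hi : i < h) (hk : k < h) :
    ∑ χ ∈ bset (principalBlock M G),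
      colC h ζ σ (χ : G → ℂ) i * conj (colC h ζ σ (χ : G → ℂ) k) =
      (if i = k then 1 else 0) + (if i = 0 ∧ k = 0 then 1 else 0) + 2 := by
  classical
  have h2 := hh.two_le
  have hN : 2 * h ≠ 0 := by omega
  have hN' : ((2 * h : ℕ) : ℂ) ≠ 0 := Nat.cast_ne_zero.2 hN
  have hconj : ∀ l, conj (kerF h ζ k l) = kerC h ζ k l := fun l => by
    have e := conj_pow_eq hζ hN (show h ≤ 2 * h by omega) l
    rw [show 2 * h - h = h by omega] at e
    rw [kerF, kerC, map_sub, conj_pow_eq hζ hN (by omega), e]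
  have e1 : ∀ χ : IrrCharacter G, colC h ζ σ (χ : G → ℂ) i * conj (colC h ζ σ (χ : G → ℂ) k) =
      (((2 * h : ℕ) : ℂ)⁻¹ * ((2 * h : ℕ) : ℂ)⁻¹) * ∑ l ∈ Finset.range (2 * h),
        ∑ m ∈ Finset.range (2 * h), kerF h ζ i l * kerC h ζ k m *
          ((χ : G → ℂ) (σ ^ l) * conj ((χ : G → ℂ) (σ ^ m))) := by
    intro χ
    rw [colC_eq, colC_eq, map_mul, map_inv₀, map_natCast, map_sum, mul_mul_mul_comm,
      Finset.sum_mul_sum]
    refine congrArg _ (Finset.sum_congr rfl fun l _ => Finset.sum_congr rfl fun m _ => ?_)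
    rw [map_mul, hconj]
    ring
  rw [Finset.sum_congr rfl fun χ _ => e1 χ, ← Finset.mul_sum, Finset.sum_comm]
  have e2 : ∀ l ∈ Finset.range (2 * h), ∑ χ ∈ bset (principalBlock M G),
      ∑ m ∈ Finset.range (2 * h), kerF h ζ i l * kerC h ζ k m *
        ((χ : G → ℂ) (σ ^ l) * conj ((χ : G → ℂ) (σ ^ m))) =
      ((2 * h : ℕ) : ℂ) * (kerF h ζ i l * (kerC h ζ k l + kerC h ζ k (2 * h - l))) := by
    intro l hl
    have hl' := Finset.mem_range.1 hl
    rcases Nat.eq_zero_or_pos l with rfl | hl0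
    · simp [kerF_zero]
    rw [Finset.sum_comm]
    have e3 : ∀ m ∈ Finset.range (2 * h), ∑ χ ∈ bset (principalBlock M G),
        kerF h ζ i l * kerC h ζ k m * ((χ : G → ℂ) (σ ^ l) * conj ((χ : G → ℂ) (σ ^ m))) =
        ((2 * h : ℕ) : ℂ) * kerF h ζ i l *
          ((if m = l then kerC h ζ k m else 0) + if m = 2 * h - l then kerC h ζ k m else 0) := by
      intro m hm
      rcases Nat.eq_zero_or_pos m with rfl | hm0
      · simp [kerC_zero]
      rw [← Finset.mul_sum, hh.orth hM hl0 hl' hm0 (Finset.mem_range.1 hm)]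
      split_ifs <;> ring
    rw [Finset.sum_congr rfl e3, ← Finset.mul_sum, Finset.sum_add_distrib, Finset.sum_ite_eq',
      Finset.sum_ite_eq', if_pos hl, if_pos (Finset.mem_range.2 (by omega))]
    ring
  rw [Finset.sum_congr rfl e2, ← Finset.mul_sum, ker_sum hζ hi hk]
  field_simp

theorem Dih.coef_real (hh : Dih P σ h) {ζ : ℂ} (hζ : IsPrimitiveRoot ζ (2 * h))
    (χ : IrrCharacter G) {i : ℕ} (hi : i ≤ 2 * h) :
    coef (2 * h) ζ σ (χ : G → ℂ) (2 * h - i) = coef (2 * h) ζ σ (χ : G → ℂ) i := by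
  haveI : NeZero (2 * h) := ⟨by have := hh.two_le; omega⟩
  obtain ⟨m, hm⟩ := coef_int hζ (by rw [← hh.ord]; exact pow_orderOf_eq_one σ)
    (isCharacter_of_irr χ.2) hi
  conv_rhs => rw [hm, ← map_intCast (starRingEnd ℂ), ← hm]
  rw [coef, coef, map_mul, map_inv₀, map_natCast, map_sum]
  refine congrArg _ (Finset.sum_congr rfl fun l _ => ?_)
  rw [map_mul, hh.value_real, conj_pow_eq hζ (NeZero.ne _) hi, Nat.sub_sub_self hi]

/-- The values on the rotations in terms of the columns. -/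
theorem Dih.recon (hh : Dih P σ h) {ζ : ℂ} (hζ : IsPrimitiveRoot ζ (2 * h)) (χ : IrrCharacter G)
    {l : ℕ} (hl0 : 0 < l) (hl : l < 2 * h) :
    (χ : G → ℂ) (σ ^ l) = colC h ζ σ (χ : G → ℂ) 0 + ∑ j ∈ Finset.range (h - 1),
      colC h ζ σ (χ : G → ℂ) (j + 1) * ((ζ ^ (j + 1)) ^ l + ((ζ ^ (j + 1)) ^ l)⁻¹) := by
  have h2 := hh.two_le
  obtain ⟨M', rfl⟩ : ∃ M', h = M' + 1 := ⟨h - 1, by omega⟩
  have h0 : ∑ i ∈ Finset.range (2 * (M' + 1)), (ζ ^ i) ^ l = 0 := by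
    rw [Finset.sum_congr rfl fun i _ => show (ζ ^ i) ^ l = (ζ ^ l) ^ i by
      rw [← pow_mul, mul_comm, pow_mul], root_sum hζ,
      if_neg fun d => by have := Nat.le_of_dvd hl0 d; omega]
  have h1 : (χ : G → ℂ) (σ ^ l) = ∑ i ∈ Finset.range (2 * (M' + 1)),
      colC (M' + 1) ζ σ (χ : G → ℂ) i * (ζ ^ i) ^ l := by
    simp only [colC, sub_mul, Finset.sum_sub_distrib, ← Finset.mul_sum]
    rw [h0, mul_zero, sub_zero, coef_inversion hζ (by omega) _ hl]
  rw [h1, sum_range_split, Nat.add_sub_cancel, pow_zero, one_pow, mul_one,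
    show colC (M' + 1) ζ σ (χ : G → ℂ) (M' + 1) = 0 from sub_self _, zero_mul, add_zero]
  congr 1
  refine Finset.sum_congr rfl fun j hj => ?_
  have hj' := Finset.mem_range.1 hj
  rw [colC, colC, hh.coef_real hζ χ (show j + 1 ≤ 2 * (M' + 1) by omega),
    ← inv_pow_eq hζ (by omega) (show j + 1 ≤ 2 * (M' + 1) by omega)]
  ring

theorem colC_one {ζ : ℂ} (hζ : IsPrimitiveRoot ζ (2 * h)) {i : ℕ} (hi : i < h) :
    colC h ζ σ (fun _ => (1 : ℂ)) i = if i = 0 then 1 else 0 := by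
  have hN' : ((2 * h : ℕ) : ℂ) ≠ 0 := Nat.cast_ne_zero.2 (by omega)
  rw [colC, coef, coef]
  simp only [one_mul]
  rw [root_sum hζ, root_sum hζ,
    if_neg (fun d : 2 * h ∣ 2 * h - h => by rw [dvd_small (by omega)] at d; omega),
    if_congr (show 2 * h ∣ 2 * h - i ↔ i = 0 by rw [dvd_small (by omega)]; omega) rfl rfl,
    mul_zero, sub_zero]
  split_ifs
  · exact inv_mul_cancel₀ hN'
  · rw [mul_zero]

theorem Dih.exists_columns (hM : IsPModular 2 M) (hh : Dih P σ h) {ζ : ℂ}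
    (hζ : IsPrimitiveRoot ζ (2 * h)) :
    ∃ (U V W : IrrCharacter G) (s : Fin (h - 1) → IrrCharacter G) (eU eV eW : ℤ),
      (eU = 1 ∨ eU = -1) ∧ (eV = 1 ∨ eV = -1) ∧ (eW = 1 ∨ eW = -1) ∧ Function.Injective s ∧
      (oneIrr G ≠ U ∧ oneIrr G ≠ V ∧ oneIrr G ≠ W ∧ U ≠ V ∧ U ≠ W ∧ V ≠ W) ∧
      (∀ j, s j ≠ oneIrr G ∧ s j ≠ U ∧ s j ≠ V ∧ s j ≠ W) ∧
      (∀ χ, χ ∈ principalBlock M G ↔
        χ = oneIrr G ∨ χ = U ∨ χ = V ∨ χ = W ∨ ∃ j, χ = s j) ∧
      (∀ l, 0 < l → l < 2 * h →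
        (W : G → ℂ) (σ ^ l) = eW ∧ (U : G → ℂ) (σ ^ l) = eU * (-1) ^ (l + 1) ∧
        (V : G → ℂ) (σ ^ l) = eV * (-1) ^ (l + 1) ∧ ∀ j : Fin (h - 1), (s j : G → ℂ) (σ ^ l) =
          eW * ((ζ ^ ((j : ℕ) + 1)) ^ l + ((ζ ^ ((j : ℕ) + 1)) ^ l)⁻¹)) ∧
      ∀ ρ : G, ¬ 2 ∣ orderOf ρ → ∀ j : Fin (h - 1),
        1 + eW * (W : G → ℂ) ρ = -(eU * (U : G → ℂ) ρ) - eV * (V : G → ℂ) ρ ∧
        1 + eW * (W : G → ℂ) ρ = eW * (s j : G → ℂ) ρ := by
  classical
  have h2 := hh.two_le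
  haveI : NeZero (2 * h) := ⟨by omega⟩
  have hσN : σ ^ (2 * h) = 1 := by rw [← hh.ord]; exact pow_orderOf_eq_one σ
  choose T hT using fun (χ : IrrCharacter G) (i : Fin (2 * h)) =>
    coef_int hζ hσN (isCharacter_of_irr χ.2) i.2.le
  let c : {χ // χ ∈ bset (principalBlock M G)} → Fin (2 * h) → ℤ := fun χ i =>
    T χ.1 i - T χ.1 ⟨h, by omega⟩
  have hc : ∀ χ i, (c χ i : ℂ) = colC h ζ σ (χ.1 : G → ℂ) i := fun χ i => by
    simp only [c, Int.cast_sub, ← hT, colC]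
  let X : {χ // χ ∈ bset (principalBlock M G)} → ℤ := fun χ => c χ ⟨0, by omega⟩
  let Y : Fin (h - 1) → {χ // χ ∈ bset (principalBlock M G)} → ℤ :=
    fun j χ => c χ ⟨(j : ℕ) + 1, by omega⟩
  have hgram : ∀ i k : Fin (2 * h), (i : ℕ) < h → (k : ℕ) < h →
      ∑ χ, c χ i * c χ k =
        (if (i : ℕ) = k then 1 else 0) + (if (i : ℕ) = 0 ∧ (k : ℕ) = 0 then 1 else 0) + 2 := by
    intro i k hi hk
    apply Int.cast_injective (α := ℂ)
    push_cast
    rw [← hh.gram hM hζ hi hk]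
    refine Eq.trans ?_ (Finset.sum_coe_sort (bset (principalBlock M G)) _)
    refine Finset.sum_congr rfl fun χ _ => ?_
    rw [← hc χ i, ← hc χ k, map_intCast]
  have hcsum : ∀ {ρ : G}, ¬ 2 ∣ orderOf ρ → ∀ i : Fin (2 * h),
      ∑ χ, (c χ i : ℂ) * (χ.1 : G → ℂ) ρ = 0 := by
    intro ρ hρ i
    rw [Finset.sum_congr rfl fun χ _ => by rw [hc χ i],
      Finset.sum_coe_sort (bset (principalBlock M G))
        (fun χ : IrrCharacter G => colC h ζ σ (χ : G → ℂ) i * (χ : G → ℂ) ρ)]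
    simp only [colC_eq, mul_assoc, Finset.sum_mul, ← Finset.mul_sum]
    rw [Finset.sum_comm, Finset.sum_eq_zero, mul_zero]
    intro l hl
    rcases Nat.eq_zero_or_pos l with rfl | hl0
    · simp [kerF_zero]
    · have e : ∀ χ : IrrCharacter G, (χ : G → ℂ) (σ ^ l) * (kerF h ζ i l * (χ : G → ℂ) ρ) =
          kerF h ζ i l * ((χ : G → ℂ) (σ ^ l) * (χ : G → ℂ) ρ) := fun χ => by ring
      simp only [e]
      rw [← Finset.mul_sum, hh.orth_regular hM hl0 (Finset.mem_range.1 hl) hρ, mul_zero]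
  have hdpos : ∀ χ : IrrCharacter G, ∃ d : ℤ, 1 ≤ d ∧ (χ : G → ℂ) 1 = d := fun χ => by
    obtain ⟨d, hd, e⟩ := irr_degree_pos χ.2
    exact ⟨d, by omega, by rw [e]; norm_num⟩
  choose d hd1 hd using hdpos
  have hdsum : ∀ i : Fin (2 * h), ∑ χ, c χ i * d χ.1 = 0 := fun i => by
    apply Int.cast_injective (α := ℂ)
    push_cast
    rw [← hcsum (ρ := 1) (by simp) i]
    exact Finset.sum_congr rfl fun χ _ => by rw [hd]
  let o : {χ // χ ∈ bset (principalBlock M G)} := ⟨oneIrr G, mem_bset.2 (oneIrr_mem hM)⟩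
  have hone : (oneIrr G : G → ℂ) = fun _ => 1 := rfl
  have hrecon : ∀ χ {l : ℕ}, 0 < l → l < 2 * h → (χ.1 : G → ℂ) (σ ^ l) =
      (X χ : ℂ) + ∑ j : Fin (h - 1),
        (Y j χ : ℂ) * ((ζ ^ ((j : ℕ) + 1)) ^ l + ((ζ ^ ((j : ℕ) + 1)) ^ l)⁻¹) := by
    intro χ l hl0 hl
    rw [hh.recon hζ χ.1 hl0 hl, Finset.sum_range]
    simp only [X, Y, hc]
  have hκ : Odd (Fintype.card (Fin (h - 1))) := by
    obtain ⟨a, rfl⟩ := hh.hpow
    rw [Fintype.card_fin, pow_succ]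
    exact ⟨2 ^ a - 1, by have := Nat.one_le_two_pow (n := a); omega⟩
  obtain ⟨U, V, W, s, eU, eV, eW, S⟩ := exists_shape o X Y (fun χ => d χ.1) (fun χ => hd1 χ.1)
    (by
      apply Int.cast_injective (α := ℂ)
      rw [← hd, hone]
      norm_num)
    hκ
    (by
      apply Int.cast_injective (α := ℂ)
      show (c o ⟨0, by omega⟩ : ℂ) = _
      rw [hc, hone, colC_one hζ (by simp; omega)]
      simp)
    (fun j => by
      apply Int.cast_injective (α := ℂ)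
      show (c o ⟨(j : ℕ) + 1, by omega⟩ : ℂ) = _
      rw [hc, hone, colC_one hζ (show (j : ℕ) + 1 < h by omega)]
      simp)
    (by rw [hgram _ _ (by simp; omega) (by simp; omega)]; simp)
    (fun j => by
      rw [hgram _ _ (by simp; omega) (show (j : ℕ) + 1 < h by omega)]
      simp)
    (fun j k => by
      rw [hgram _ _ (show (j : ℕ) + 1 < h by omega) (show (k : ℕ) + 1 < h by omega)]
      by_cases e : j = k
      · simp [e]
      · simp [e, Fin.val_ne_of_ne e])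
    (hdsum _) (fun j => hdsum _)
    (fun χ => by
      by_contra hz
      push Not at hz
      refine hh.central_ne_zero hM (mem_bset.1 χ.2) ?_
      rw [hrecon χ (by omega : 0 < h) (by omega), hz.1, Finset.sum_eq_zero
        fun j _ => by rw [hz.2 j, Int.cast_zero, zero_mul]]
      simp)
  -- the sum of the roots
  have hsumW : ∀ {l : ℕ}, 0 < l → l < 2 * h →
      1 + ∑ j : Fin (h - 1), ((ζ ^ ((j : ℕ) + 1)) ^ l + ((ζ ^ ((j : ℕ) + 1)) ^ l)⁻¹) =
        (-1 : ℂ) ^ (l + 1) := by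
    intro l hl0 hl
    obtain ⟨M', hM'⟩ : ∃ M', h = M' + 1 := ⟨h - 1, by omega⟩
    have hM1 : M' = h - 1 := by omega
    have h0 : ∑ i ∈ Finset.range (2 * h), (ζ ^ l) ^ i = 0 := by
      rw [root_sum hζ, if_neg fun e => by have := Nat.le_of_dvd hl0 e; omega]
    rw [hM', sum_range_split, pow_zero, ← hM'] at h0
    have hhalf : ζ ^ h = -1 := IsPrimitiveRoot.eq_neg_one_of_two_right
      (hζ.pow (by omega) (mul_comm 2 h))
    have e1 : (ζ ^ l) ^ h = (-1) ^ l := by rw [← pow_mul, mul_comm, pow_mul, hhalf]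
    have e2 : ∀ j : ℕ, j < h - 1 → (ζ ^ l) ^ (j + 1) + (ζ ^ l) ^ (2 * h - (j + 1)) =
        (ζ ^ (j + 1)) ^ l + ((ζ ^ (j + 1)) ^ l)⁻¹ := fun j hj => by
      rw [inv_pow_eq hζ (by omega) (by omega), ← pow_mul, ← pow_mul, ← pow_mul, ← pow_mul,
        mul_comm l, mul_comm l]
    rw [e1, hM1, Finset.sum_congr rfl fun j hj => e2 j (Finset.mem_range.1 hj),
      Finset.sum_range] at h0
    rw [pow_succ]
    linear_combination h0
  refine ⟨U.1, V.1, W.1, fun j => (s j).1, eU, eV, eW, S.uU, S.uV, S.uW,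
    Subtype.val_injective.comp S.inj,
    ⟨Subtype.coe_ne_coe.2 S.oU, Subtype.coe_ne_coe.2 S.oV, Subtype.coe_ne_coe.2 S.oW,
      Subtype.coe_ne_coe.2 S.UV, Subtype.coe_ne_coe.2 S.UW, Subtype.coe_ne_coe.2 S.VW⟩,
    fun j => ⟨Subtype.coe_ne_coe.2 (S.sne j).1, Subtype.coe_ne_coe.2 (S.sne j).2.1,
      Subtype.coe_ne_coe.2 (S.sne j).2.2.1, Subtype.coe_ne_coe.2 (S.sne j).2.2.2⟩,
    fun χ => ⟨fun hχ => ?_, ?_⟩, fun l hl0 hl => ⟨?_, ?_, ?_, fun j => ?_⟩, fun ρ hρ j => ?_⟩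
  · rcases S.cover ⟨χ, mem_bset.2 hχ⟩ with e | e | e | e | ⟨j, e⟩
    · exact Or.inl (congrArg Subtype.val e)
    · exact Or.inr (Or.inl (congrArg Subtype.val e))
    · exact Or.inr (Or.inr (Or.inl (congrArg Subtype.val e)))
    · exact Or.inr (Or.inr (Or.inr (Or.inl (congrArg Subtype.val e))))
    · exact Or.inr (Or.inr (Or.inr (Or.inr ⟨j, congrArg Subtype.val e⟩)))
  · rintro (e | e | e | e | ⟨j, e⟩) <;> rw [e]
    · exact mem_bset.1 o.2
    · exact mem_bset.1 U.2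
    · exact mem_bset.1 V.2
    · exact mem_bset.1 W.2
    · exact mem_bset.1 (s j).2
  · rw [hrecon W hl0 hl, S.xW]
    simp [S.yW]
  · rw [hrecon U hl0 hl, S.xU]
    simp only [S.yU, ← Finset.mul_sum]
    rw [← hsumW hl0 hl]
    ring
  · rw [hrecon V hl0 hl, S.xV]
    simp only [S.yV, ← Finset.mul_sum]
    rw [← hsumW hl0 hl]
    ring
  · rw [hrecon (s j) hl0 hl, S.xs, Finset.sum_eq_single j (fun k _ hk => by
      rw [S.ys' k j hk, Int.cast_zero, zero_mul]) (fun h => absurd (Finset.mem_univ _) h), S.ys]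
    simp
  · have huniv : ∀ f : {χ // χ ∈ bset (principalBlock M G)} → ℂ,
        ∑ χ, f χ = f o + f U + f V + f W + ∑ k, f (s k) := by
      intro f
      have hu : (Finset.univ : Finset {χ // χ ∈ bset (principalBlock M G)}) =
          insert o (insert U (insert V (insert W (Finset.univ.image s)))) := by
        refine (Finset.eq_univ_of_forall fun χ => ?_).symm
        simp only [Finset.mem_insert, Finset.mem_image, Finset.mem_univ, true_and]
        rcases S.cover χ with e | e | e | e | ⟨k, e⟩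
        exacts [Or.inl e, Or.inr (Or.inl e), Or.inr (Or.inr (Or.inl e)),
          Or.inr (Or.inr (Or.inr (Or.inl e))), Or.inr (Or.inr (Or.inr (Or.inr ⟨k, e.symm⟩)))]
      rw [hu, Finset.sum_insert (by simp [S.oU, S.oV, S.oW, fun k => (S.sne k).1]),
        Finset.sum_insert (by simp [S.UV, S.UW, fun k => (S.sne k).2.1]),
        Finset.sum_insert (by simp [S.VW, fun k => (S.sne k).2.2.1]),
        Finset.sum_insert (by simp [fun k => (S.sne k).2.2.2]),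
        Finset.sum_image S.inj.injOn]
      ring
    have hX : ∑ χ, (X χ : ℂ) * (χ.1 : G → ℂ) ρ = 0 := hcsum hρ _
    have hY : ∑ χ, (Y j χ : ℂ) * (χ.1 : G → ℂ) ρ = 0 := hcsum hρ _
    rw [huniv, S.xo, S.xU, S.xV, S.xW] at hX
    rw [huniv, S.yo, S.yU, S.yV, S.yW, Finset.sum_eq_single j (fun k _ hk => by
      rw [S.ys' j k (Ne.symm hk), Int.cast_zero, zero_mul])
      (fun h => absurd (Finset.mem_univ _) h), S.ys] at hY
    have ho : (o.1 : G → ℂ) ρ = 1 := rfl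
    simp only [S.xs, Int.cast_zero, zero_mul, Finset.sum_const_zero, add_zero, Int.cast_one,
      one_mul, ho] at hX
    simp only [Int.cast_zero, zero_mul, zero_add, add_zero] at hY
    exact ⟨by linear_combination hX, by linear_combination hX - hY⟩

end CfsgLib.Blocks.Dihedral
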