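import Cfsg.Agent.Lib.DihedralTransfer
import Cfsg.Agent.Lib.DihedralClasses
import Cfsg.Agent.Lib.HSub.Complement

/-!
# Groups with dihedral Sylow 2-subgroups: the centralisers and fusion of the rotations
-/

namespace CfsgLib.Blocks.Dihedral

open Cfsg

set_option linter.unusedVariables false
set_option linter.unusedSectionVars false
set_option linter.style.haveILetI false

universe u

variable {G : Type u} [Group G] [Finite G]

theorem cyclic_ext {A : Type*} [Group A] [Finite A] [IsCyclic A] {H K : Subgroup A}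
    (h : Nat.card H = Nat.card K) : H = K := by
  classical
  have := Fintype.ofFinite A
  have key : ∀ L : Subgroup A, Nat.card L = Nat.card H →
      Finset.univ.filter (fun x => x ∈ L) =
        Finset.univ.filter (fun x : A => x ^ Nat.card H = 1) := by
    intro L hL
    refine Finset.eq_of_subset_of_card_le (fun x hx => ?_) ?_
    · refine Finset.mem_filter.mpr ⟨Finset.mem_univ _, ?_⟩
      exact orderOf_dvd_iff_pow_eq_one.mp (hL ▸ L.orderOf_dvd_natCard (Finset.mem_filter.mp hx).2)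
    · refine (IsCyclic.card_pow_eq_one_le Nat.card_pos).trans ?_
      rw [← Fintype.card_subtype, ← Nat.card_eq_fintype_card, ← hL]
  ext x
  simpa using Finset.ext_iff.mp ((key H rfl).trans (key K h.symm).symm) x

/-- The hypotheses. -/
structure Dih (P : Sylow 2 G) (σ : G) (h : ℕ) : Prop where
  hpow : ∃ a : ℕ, h = 2 ^ (a + 1)
  iso : Nonempty ((P : Subgroup G) ≃* DihedralGroup (2 * h))
  mem : σ ∈ (P : Subgroup G)
  ord : orderOf σ = 2 * h

variable {P : Sylow 2 G} {σ : G} {h : ℕ}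

theorem Dih.two_le (hh : Dih P σ h) : 2 ≤ h := by
  obtain ⟨a, rfl⟩ := hh.hpow
  exact Nat.le_self_pow (by omega) 2

theorem Dih.ord_pow (hh : Dih P σ h) : ∃ k : ℕ, 2 * h = 2 ^ k := by
  obtain ⟨a, rfl⟩ := hh.hpow
  exact ⟨a + 2, by ring⟩

theorem Dih.card (hh : Dih P σ h) : Nat.card P = 2 * (2 * h) := by
  obtain ⟨e⟩ := hh.iso
  exact (Nat.card_congr e.toEquiv).trans DihedralGroup.nat_card

theorem Dih.zle (hh : Dih P σ h) : Subgroup.zpowers σ ≤ (P : Subgroup G) :=
  Subgroup.zpowers_le.2 hh.mem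

theorem Dih.out (hh : Dih P σ h) {s : G} (hs : s ∈ (P : Subgroup G))
    (hns : s ∉ Subgroup.zpowers σ) : s * s = 1 ∧ s * σ * s⁻¹ = σ⁻¹ := by
  obtain ⟨e⟩ := hh.iso
  haveI : NeZero (2 * h) := ⟨by have := hh.two_le; omega⟩
  have ho : orderOf (e ⟨σ, hh.mem⟩) = 2 * h := by
    rw [MulEquiv.orderOf_eq, Subgroup.orderOf_mk, hh.ord]
  have h2 := hh.two_le
  cases hj : e ⟨σ, hh.mem⟩ with
  | sr i =>
    rw [hj, DihedralGroup.orderOf_sr] at ho
    omega
  | r j =>
    rw [hj] at ho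
    have hzp : Subgroup.zpowers (DihedralGroup.r j) =
        Subgroup.zpowers (DihedralGroup.r (1 : ZMod (2 * h))) := by
      refine Subgroup.eq_of_le_of_card_ge (Subgroup.zpowers_le.2 ⟨(j.val : ℤ), ?_⟩) ?_
      · show (DihedralGroup.r 1 : DihedralGroup (2 * h)) ^ (j.val : ℤ) = _
        rw [DihedralGroup.r_one_zpow]
        simp
      · rw [Nat.card_zpowers, Nat.card_zpowers, ho, DihedralGroup.orderOf_r_one]
    cases hk : e ⟨s, hs⟩ with
    | r i =>
      exfalso
      have hi : DihedralGroup.r i ∈ Subgroup.zpowers (DihedralGroup.r j) := by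
        rw [hzp]
        refine ⟨(i.val : ℤ), ?_⟩
        show (DihedralGroup.r 1 : DihedralGroup (2 * h)) ^ (i.val : ℤ) = _
        rw [DihedralGroup.r_one_zpow]
        simp
      obtain ⟨t, ht⟩ := hi
      refine hns ⟨t, ?_⟩
      have : (⟨σ, hh.mem⟩ : (P : Subgroup G)) ^ t = ⟨s, hs⟩ := e.injective (by
        rw [map_zpow, hj, hk]
        exact ht)
      exact congrArg Subtype.val this
    | sr i =>
      have h1 : (⟨s, hs⟩ : (P : Subgroup G)) * ⟨s, hs⟩ = 1 := e.injective (by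
        rw [map_mul, hk, DihedralGroup.sr_mul_self, map_one])
      have h3 : (⟨s, hs⟩ : (P : Subgroup G)) * ⟨σ, hh.mem⟩ * ⟨s, hs⟩⁻¹ = ⟨σ, hh.mem⟩⁻¹ :=
        e.injective (by rw [map_mul, map_mul, map_inv, map_inv, hk, hj]; simp)
      exact ⟨congrArg Subtype.val h1, congrArg Subtype.val h3⟩

theorem Dih.exists_out (hh : Dih P σ h) :
    ∃ s ∈ (P : Subgroup G), s ∉ Subgroup.zpowers σ := by
  by_contra hc
  push Not at hc
  have h1 := Subgroup.card_le_of_le (show (P : Subgroup G) ≤ Subgroup.zpowers σ from hc)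
  rw [Nat.card_zpowers, hh.ord, hh.card] at h1
  have := hh.two_le
  omega

theorem Dih.invert (hh : Dih P σ h) {s : G} (hs : s ∈ (P : Subgroup G))
    (hns : s ∉ Subgroup.zpowers σ) {u : G} (hu : u ∈ Subgroup.zpowers σ) : s * u * s⁻¹ = u⁻¹ := by
  obtain ⟨t, rfl⟩ := hu
  show s * σ ^ t * s⁻¹ = (σ ^ t)⁻¹
  rw [← conj_zpow, (hh.out hs hns).2, inv_zpow]

theorem Dih.sq_ne_one_mem (hh : Dih P σ h) {x : G} (hx : x ∈ (P : Subgroup G)) (h2 : x * x ≠ 1) :
    x ∈ Subgroup.zpowers σ := by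
  by_contra hn
  exact h2 (hh.out hx hn).1

theorem Dih.comm_mem (hh : Dih P σ h) {u s : G} (hu : u ∈ Subgroup.zpowers σ) (hu2 : u * u ≠ 1)
    (hs : s ∈ (P : Subgroup G)) (hc : Commute s u) : s ∈ Subgroup.zpowers σ := by
  by_contra hn
  have h1 := hh.invert hs hn hu
  rw [hc.eq, mul_inv_cancel_right] at h1
  exact hu2 (mul_eq_one_iff_eq_inv.2 h1)

/-- The central involution. -/
theorem Dih.z_ne (hh : Dih P σ h) : σ ^ h ≠ 1 ∧ σ ^ h * σ ^ h = 1 := by
  refine ⟨fun e => ?_, by rw [← pow_add, ← two_mul, ← hh.ord, pow_orderOf_eq_one]⟩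
  have := Nat.le_of_dvd (by have := hh.two_le; omega) (orderOf_dvd_of_pow_eq_one e)
  rw [hh.ord] at this
  have := hh.two_le
  omega

theorem Dih.z_central (hh : Dih P σ h) {s : G} (hs : s ∈ (P : Subgroup G)) :
    Commute s (σ ^ h) := by
  by_cases hn : s ∈ Subgroup.zpowers σ
  · obtain ⟨t, rfl⟩ := hn
    exact (Commute.zpow_self σ t).pow_right h
  · have h1 := hh.invert hs hn (Subgroup.npow_mem_zpowers σ h)
    rw [← eq_inv_of_mul_eq_one_left hh.z_ne.2] at h1
    exact mul_inv_eq_iff_eq_mul.1 h1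

theorem Dih.sq_eq_one (hh : Dih P σ h) {u : G} (hu : u ∈ Subgroup.zpowers σ) (h2 : u * u = 1) :
    u = 1 ∨ u = σ ^ h := by
  obtain ⟨t, rfl⟩ := (IsOfFinOrder.mem_powers_iff_mem_zpowers (isOfFinOrder_of_finite σ)).2 hu
  simp only at h2 ⊢
  rw [← pow_add] at h2
  obtain ⟨q, hq⟩ := (orderOf_dvd_of_pow_eq_one h2).trans (dvd_refl _)
  rw [hh.ord] at hq
  have hq' : t = h * q := by nlinarith
  rcases q.even_or_odd with ⟨r, hr⟩ | ⟨r, hr⟩
  · left
    rw [hq', hr, ← two_mul, ← mul_assoc, mul_comm h 2, pow_mul, ← hh.ord, pow_orderOf_eq_one,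
      one_pow]
  · right
    rw [hq', hr, mul_add, mul_one, pow_add, ← mul_assoc, mul_comm h 2, pow_mul, ← hh.ord,
      pow_orderOf_eq_one, one_pow, one_mul]

/-- Two-subgroups of the centraliser of a rotation of order at least four are cyclic. -/
theorem Dih.cent_two (hh : Dih P σ h) {u : G} (hu : u ∈ Subgroup.zpowers σ) (hu2 : u * u ≠ 1)
    {T : Subgroup G} (hT : IsPGroup 2 T) (hTc : ∀ t ∈ T, Commute t u) (huT : u ∈ T) :
    ∃ g : G, ∀ t ∈ T, g * t * g⁻¹ ∈ Subgroup.zpowers σ := by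
  obtain ⟨g, hg⟩ := DihedralFusion.exists_conj_le (S := P) hT
  have hgu : g * u * g⁻¹ ∈ Subgroup.zpowers σ := hh.sq_ne_one_mem (hg ⟨u, huT, rfl⟩) fun e => hu2 (by
    rw [show g * u * g⁻¹ * (g * u * g⁻¹) = g * (u * u) * g⁻¹ by group, conj_eq_one_iff] at e
    exact e)
  refine ⟨g, fun t ht => hh.comm_mem hgu (fun e => hu2 ?_) (hg ⟨t, ht, rfl⟩) ?_⟩
  · rw [show g * u * g⁻¹ * (g * u * g⁻¹) = g * (u * u) * g⁻¹ by group, conj_eq_one_iff] at e
    exact e
  · exact ((Commute.conj_iff g).2 (hTc t ht))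

theorem Dih.le_cent (hh : Dih P σ h) {u : G} (hu : u ∈ Subgroup.zpowers σ) :
    Subgroup.zpowers σ ≤ Subgroup.centralizer ({u} : Set G) := by
  intro x hx
  obtain ⟨a, rfl⟩ := hu
  obtain ⟨b, rfl⟩ := hx
  exact Subgroup.mem_centralizer_singleton_iff.2 (Commute.zpow_zpow_self σ b a).eq

/-- The Sylow subgroups of the centraliser of a rotation of order at least four. -/
theorem Dih.sylow_cent (hh : Dih P σ h) {u : G} (hu : u ∈ Subgroup.zpowers σ) (hu2 : u * u ≠ 1)
    (Q : Sylow 2 (Subgroup.centralizer ({u} : Set G))) :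
    IsCyclic (Q : Subgroup (Subgroup.centralizer ({u} : Set G))) ∧ Nat.card Q = 2 * h := by
  classical
  haveI : Fact (Nat.Prime 2) := ⟨Nat.prime_two⟩
  have huC : u ∈ (Subgroup.centralizer ({u} : Set G)) := hh.le_cent hu hu
  have hzp : IsPGroup 2 (Subgroup.zpowers σ) := P.2.to_le hh.zle
  have hzC : IsPGroup 2 ((Subgroup.zpowers σ).subgroupOf (Subgroup.centralizer ({u} : Set G))) :=
    hzp.of_equiv (Subgroup.subgroupOfEquivOfLe (hh.le_cent hu)).symm
  obtain ⟨Q₀, hQ₀⟩ := hzC.exists_le_sylow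
  have hcard : ∀ Q' : Sylow 2 (Subgroup.centralizer ({u} : Set G)), Nat.card Q' = Nat.card Q := fun Q' => by
    rw [Q'.card_eq_multiplicity, Q.card_eq_multiplicity]
  have hge : 2 * h ≤ Nat.card Q := by
    rw [← hcard Q₀, ← hh.ord, ← Nat.card_zpowers,
      ← Nat.card_congr (Subgroup.subgroupOfEquivOfLe (hh.le_cent hu)).toEquiv]
    exact Subgroup.card_le_of_le hQ₀
  have huQ : (⟨u, huC⟩ : (Subgroup.centralizer ({u} : Set G))) ∈ (Q : Subgroup (Subgroup.centralizer ({u} : Set G))) := by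
    haveI : (Subgroup.zpowers (⟨u, huC⟩ : (Subgroup.centralizer ({u} : Set G)))).Normal := by
      refine ⟨fun n hn g => ?_⟩
      obtain ⟨t, rfl⟩ := hn
      have hgu : Commute g (⟨u, huC⟩ : (Subgroup.centralizer ({u} : Set G))) :=
        Subtype.ext (Subgroup.mem_centralizer_singleton_iff.1 g.2)
      exact ⟨t, by show _ = g * (⟨u, huC⟩ : (Subgroup.centralizer ({u} : Set G))) ^ t * g⁻¹; rw [(hgu.zpow_right t).eq, mul_inv_cancel_right]⟩
    have hp : IsPGroup 2 (Subgroup.zpowers (⟨u, huC⟩ : (Subgroup.centralizer ({u} : Set G)))) :=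
      hzC.to_le (Subgroup.zpowers_le.2 (by exact hu))
    have hQle := Q.is_maximal' (Q.2.to_sup_of_normal_right hp) le_sup_left
    rw [← hQle]
    exact Subgroup.mem_sup_right (Subgroup.mem_zpowers _)
  obtain ⟨g, hg⟩ := hh.cent_two hu hu2 (T := (Q : Subgroup (Subgroup.centralizer ({u} : Set G))).map (Subgroup.centralizer ({u} : Set G)).subtype) (Q.2.map _)
    (by
      rintro _ ⟨t, -, rfl⟩
      exact Subgroup.mem_centralizer_singleton_iff.1 t.2)
    ⟨_, huQ, rfl⟩
  let f : (Q : Subgroup (Subgroup.centralizer ({u} : Set G))) →* Subgroup.zpowers σ :=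
    (((MulAut.conj g).toMonoidHom.comp (Subgroup.centralizer ({u} : Set G)).subtype).comp (Q : Subgroup (Subgroup.centralizer ({u} : Set G))).subtype).codRestrict _
      fun t => hg _ ⟨t, t.2, rfl⟩
  have hf : Function.Injective f := fun a b e => by
    have e1 : g * ((a : (Subgroup.centralizer ({u} : Set G))) : G) * g⁻¹ = g * ((b : (Subgroup.centralizer ({u} : Set G))) : G) * g⁻¹ := congrArg Subtype.val e
    exact Subtype.ext (Subtype.ext (mul_left_cancel (mul_right_cancel e1)))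
  refine ⟨isCyclic_of_injective f hf, le_antisymm ?_ hge⟩
  rw [← hh.ord, ← Nat.card_zpowers]
  exact Nat.card_le_card_of_injective f hf

theorem exists_complement_of {C : Type u} [Group C] [Finite C] (h : HasNormalPComplement 2 C)
    {n : ℕ} (hn : ∀ Q : Sylow 2 C, Nat.card Q = n) :
    ∃ K : Subgroup C, K.Normal ∧ ¬ 2 ∣ Nat.card K ∧ K.index = n := by
  haveI : Fact (Nat.Prime 2) := ⟨Nat.prime_two⟩
  obtain ⟨Q, K, hK, hc⟩ := h
  refine ⟨K, hK, fun hd => Q.not_dvd_index (hc.index_eq_card ▸ hd), ?_⟩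
  rw [hc.symm.index_eq_card, hn Q]

theorem Dih.complement_rot (hh : Dih P σ h) {u : G} (hu : u ∈ Subgroup.zpowers σ)
    (hu2 : u * u ≠ 1) : ∃ K : Subgroup (Subgroup.centralizer ({u} : Set G)),
      K.Normal ∧ ¬ 2 ∣ Nat.card K ∧ K.index = 2 * h := by
  haveI : Fact (Nat.Prime 2) := ⟨Nat.prime_two⟩
  exact exists_complement_of (HSub.hasNormalPComplement_of_cyclic (fun q hq _ => hq.two_le)
    Classical.ofNonempty (hh.sylow_cent hu hu2 _).1) fun Q => (hh.sylow_cent hu hu2 Q).2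

theorem Dih.complement_z (hh : Dih P σ h) :
    ∃ K : Subgroup (Subgroup.centralizer ({σ ^ h} : Set G)),
      K.Normal ∧ ¬ 2 ∣ Nat.card K ∧ K.index = 2 * (2 * h) := by
  classical
  haveI : Fact (Nat.Prime 2) := ⟨Nat.prime_two⟩
  obtain ⟨e⟩ := hh.iso
  set C := Subgroup.centralizer ({σ ^ h} : Set G) with hC
  have hPC : (P : Subgroup G) ≤ C := fun x hx =>
    Subgroup.mem_centralizer_singleton_iff.2 (hh.z_central hx).eq
  let S : Sylow 2 C := P.subtype hPC
  let eS : (S : Subgroup C) ≃* DihedralGroup (2 * h) := (Subgroup.subgroupOfEquivOfLe hPC).trans e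
  have hz2 := hh.z_ne
  refine exists_complement_of (DihedralFusion.hasNormalPComplement_of_lacking eS
    (by have := hh.two_le; omega) fun U hU hK g hg hodd => ?_) fun Q => ?_
  · -- the central involution lies in every four-subgroup
    have hUP : ∀ x ∈ U, (x : G) ∈ (P : Subgroup G) := fun x hx => hU hx
    have hsq : ∀ x ∈ U, (x : G) * x = 1 := fun x hx => by
      haveI := hK
      exact congrArg (fun y : U => ((y : C) : G)) (IsKleinFour.mul_self (⟨x, hx⟩ : U))
    set zc : C := ⟨σ ^ h, hPC (hh.zle (Subgroup.npow_mem_zpowers σ h))⟩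
    have hout : ∀ x ∈ U, x ≠ 1 → x ≠ zc → (x : G) ∉ Subgroup.zpowers σ := fun x hx h1 h2 hm => by
      rcases hh.sq_eq_one hm (hsq x hx) with e' | e'
      · exact h1 (Subtype.ext e')
      · exact h2 (Subtype.ext e')
    have hprod : ∀ x ∈ U, ∀ y ∈ U, x ≠ 1 → x ≠ zc → y ≠ 1 → y ≠ zc → x * y = 1 ∨ x * y = zc := by
      intro x hx y hy a b c d
      by_contra hcon
      push Not at hcon
      have hxy := hout _ (U.mul_mem hx hy) hcon.1 hcon.2
      have i1 := hh.invert (hUP x hx) (hout x hx a b) (Subgroup.mem_zpowers σ)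
      have i2 := hh.invert (hUP y hy) (hout y hy c d) (Subgroup.mem_zpowers σ)
      have i3 := hh.invert ((P : Subgroup G).mul_mem (hUP x hx) (hUP y hy)) hxy
        (Subgroup.mem_zpowers σ)
      rw [show ((x : G) * y) * σ * ((x : G) * y)⁻¹ = x * (y * σ * (y : G)⁻¹) * (x : G)⁻¹ by group,
        i2, show (x : G) * σ⁻¹ * (x : G)⁻¹ = (x * σ * (x : G)⁻¹)⁻¹ by group, i1, inv_inv] at i3
      have := orderOf_dvd_of_pow_eq_one (x := σ) (n := 2)
        (by rw [sq]; exact mul_eq_one_iff_eq_inv.2 i3)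
      have := Nat.le_of_dvd (by norm_num) this
      rw [hh.ord] at this
      have := hh.two_le
      omega
    have hcomm : Commute g zc :=
      Subtype.ext (Subgroup.mem_centralizer_singleton_iff.1 g.2)
    refine Subgroup.mem_centralizer_iff.2 fun u hu => ?_
    by_cases h1 : u = 1
    · rw [h1, one_mul, mul_one]
    by_cases h2 : u = zc
    · rw [h2]; exact hcomm.symm.eq
    -- conjugation maps `u` to `u` or `u * z`
    have key : ∀ v ∈ U, v ≠ 1 → v ≠ zc → g * v * g⁻¹ = v ∨ g * v * g⁻¹ = v * zc := by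
      intro v hv a b
      have hv' : g * v * g⁻¹ ∈ U := (Subgroup.mem_normalizer_iff.1 hg v).1 hv
      have c : g * v * g⁻¹ ≠ 1 := fun e' => a (conj_eq_one_iff.1 e')
      have d : g * v * g⁻¹ ≠ zc := fun e' => b (by
        calc v = g⁻¹ * (g * v * g⁻¹) * g := by group
          _ = g⁻¹ * (g * zc) := by rw [e', hcomm.eq, mul_assoc]
          _ = zc := inv_mul_cancel_left g zc)
      have hvv : v⁻¹ = v := inv_eq_of_mul_eq_one_right (Subtype.ext (hsq v hv))
      rcases hprod v hv _ hv' a b c d with e' | e'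
      · left; rw [eq_inv_of_mul_eq_one_right e', hvv]
      · right
        rw [show g * v * g⁻¹ = v⁻¹ * (v * (g * v * g⁻¹)) by group, e', hvv]
    have hg2 : Commute (g ^ 2) u := by
      have : g ^ 2 * u * (g ^ 2)⁻¹ = u := by
        rw [show g ^ 2 * u * (g ^ 2)⁻¹ = g * (g * u * g⁻¹) * g⁻¹ by rw [sq]; group]
        rcases key u hu h1 h2 with e' | e'
        · rw [e', e']
        · rw [e', show g * (u * zc) * g⁻¹ = g * u * g⁻¹ * (g * zc * g⁻¹) by group, e', hcomm.eq,
            mul_inv_cancel_right, mul_assoc, show zc * zc = 1 from Subtype.ext hz2.2, mul_one]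
      exact mul_inv_eq_iff_eq_mul.1 this
    obtain ⟨k, hk⟩ := hodd
    have e2 : g = (g ^ 2) ^ (k + 1) := by
      rw [← pow_mul, show 2 * (k + 1) = orderOf g + 1 by omega, pow_succ, pow_orderOf_eq_one,
        one_mul]
    rw [e2]
    exact (hg2.pow_left (k + 1)).eq.symm
  · rw [Q.card_eq_multiplicity, ← S.card_eq_multiplicity, ← hh.card]
    exact Nat.card_congr (Subgroup.subgroupOfEquivOfLe hPC).toEquiv

/-- Conjugate rotations are equal or inverse. -/
theorem Dih.fusion (hh : Dih P σ h) {u v : G} (hu : u ∈ Subgroup.zpowers σ)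
    (hv : v ∈ Subgroup.zpowers σ) (hu1 : u ≠ 1) (hc : IsConj u v) : v = u ∨ v = u⁻¹ := by
  classical
  haveI : Fact (Nat.Prime 2) := ⟨Nat.prime_two⟩
  obtain ⟨g, hg⟩ := isConj_iff.1 hc
  by_cases hu2 : u * u = 1
  · have hv2 : v * v = 1 := by
      rw [← hg, show g * u * g⁻¹ * (g * u * g⁻¹) = g * (u * u) * g⁻¹ by group, hu2]; group
    have hv1 : v ≠ 1 := fun e => hu1 (conj_eq_one_iff.1 (hg.trans e))
    left
    rw [(hh.sq_eq_one hu hu2).resolve_left hu1, (hh.sq_eq_one hv hv2).resolve_left hv1]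
  -- `u` and `v` generate the same subgroup
  have hord : orderOf v = orderOf u := by rw [← hg, ← MulAut.conj_apply, MulEquiv.orderOf_eq]
  have hUV : Subgroup.zpowers v = Subgroup.zpowers u := by
    have : ∀ H K : Subgroup (Subgroup.zpowers σ), Nat.card H = Nat.card K → H = K :=
      fun H K e => cyclic_ext e
    have e := this (Subgroup.zpowers ⟨v, hv⟩) (Subgroup.zpowers ⟨u, hu⟩)
      (by rw [Nat.card_zpowers, Nat.card_zpowers, Subgroup.orderOf_mk, Subgroup.orderOf_mk, hord])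
    simpa [MonoidHom.map_zpowers] using congrArg (Subgroup.map (Subgroup.zpowers σ).subtype) e
  have hCuv : ∀ x : G, Commute x u → Commute x v := by
    intro x hx
    obtain ⟨t, ht⟩ := hUV ▸ Subgroup.mem_zpowers v
    rw [← ht]
    exact hx.zpow_right t
  have hCvu : ∀ x : G, Commute x v → Commute x u := by
    intro x hx
    obtain ⟨t, ht⟩ := hUV.symm ▸ Subgroup.mem_zpowers u
    rw [← ht]
    exact hx.zpow_right t
  -- move the cyclic Sylow subgroup of the centraliser back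
  set C := Subgroup.centralizer ({u} : Set G) with hC
  have hzC := hh.le_cent hu
  have hzg : (Subgroup.zpowers σ).map (MulAut.conj g).toMonoidHom ≤ C := by
    rintro _ ⟨x, hx, rfl⟩
    refine Subgroup.mem_centralizer_singleton_iff.2 (hCvu _ ?_).eq
    rw [← hg]
    exact (Commute.conj_iff g).2 (Subgroup.mem_centralizer_singleton_iff.1 (hzC hx))
  have hp1 : IsPGroup 2 ((Subgroup.zpowers σ).subgroupOf C) :=
    (P.2.to_le hh.zle).of_equiv (Subgroup.subgroupOfEquivOfLe hzC).symm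
  have hp2 : IsPGroup 2 (((Subgroup.zpowers σ).map (MulAut.conj g).toMonoidHom).subgroupOf C) :=
    ((P.2.to_le hh.zle).map _).of_equiv (Subgroup.subgroupOfEquivOfLe hzg).symm
  obtain ⟨Q₁, hQ₁⟩ := hp1.exists_le_sylow
  obtain ⟨Q₂, hQ₂⟩ := hp2.exists_le_sylow
  have e1 : (Subgroup.zpowers σ).subgroupOf C = Q₁ := Subgroup.eq_of_le_of_card_ge hQ₁ (by
    rw [(hh.sylow_cent hu hu2 Q₁).2, Nat.card_congr (Subgroup.subgroupOfEquivOfLe hzC).toEquiv,
      Nat.card_zpowers, hh.ord])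
  have e2 : ((Subgroup.zpowers σ).map (MulAut.conj g).toMonoidHom).subgroupOf C = Q₂ :=
    Subgroup.eq_of_le_of_card_ge hQ₂ (by
      rw [(hh.sylow_cent hu hu2 Q₂).2, Nat.card_congr (Subgroup.subgroupOfEquivOfLe hzg).toEquiv,
        Subgroup.card_map_of_injective (MulAut.conj g).injective, Nat.card_zpowers, hh.ord])
  obtain ⟨c, hc'⟩ := MulAction.exists_smul_eq C Q₂ Q₁
  set w : G := (c : G) * g
  have hwN : w * σ * w⁻¹ ∈ Subgroup.zpowers σ := by
    have h1 : (⟨g * σ * g⁻¹, hzg ⟨σ, Subgroup.mem_zpowers σ, rfl⟩⟩ : C) ∈ (Q₂ : Subgroup C) :=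
      e2 ▸ Subgroup.mem_subgroupOf.2 (Subgroup.mem_map.2 ⟨σ, Subgroup.mem_zpowers σ, rfl⟩)
    have h2 := Subgroup.smul_mem_pointwise_smul _ (MulAut.conj c) _ h1
    have h3 : MulAut.conj c • (⟨g * σ * g⁻¹, hzg ⟨σ, Subgroup.mem_zpowers σ, rfl⟩⟩ : C) ∈
        (Q₁ : Subgroup C) := by
      rw [← hc']
      exact h2
    rw [← e1] at h3
    have h4 : (c : G) * (g * σ * g⁻¹) * (c : G)⁻¹ ∈ Subgroup.zpowers σ := h3
    simpa [w, mul_assoc] using h4
  have hwu : w * u * w⁻¹ = v := by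
    have := hCuv _ (Subgroup.mem_centralizer_singleton_iff.1 c.2)
    rw [show w * u * w⁻¹ = (c : G) * (g * u * g⁻¹) * (c : G)⁻¹ by simp only [w]; group, hg,
      this.eq, mul_inv_cancel_right]
  -- the normaliser of the rotations is their centraliser times `P`
  set R := Subgroup.zpowers σ with hR
  have hwR : w ∈ Subgroup.normalizer (R : Set G) := by
    refine Subgroup.mem_normalizer_fintype fun x hx => ?_
    obtain ⟨t, rfl⟩ := hx
    show w * σ ^ t * w⁻¹ ∈ R
    rw [← conj_zpow]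
    exact R.zpow_mem hwN t
  have hPN : (P : Subgroup G) ≤ Subgroup.normalizer (R : Set G) := by
    intro s hs
    refine Subgroup.mem_normalizer_fintype fun x hx => ?_
    by_cases hn : s ∈ R
    · exact R.mul_mem (R.mul_mem hn hx) (R.inv_mem hn)
    · rw [hh.invert hs hn hx]
      exact R.inv_mem hx
  set N := Subgroup.normalizer (R : Set G)
  set K := R.normalizerMonoidHom.ker with hK
  obtain ⟨k, hk⟩ := hh.ord_pow
  have hKi : ∃ i, K.index = 2 ^ i := by
    have h1 : K.index ∣ 2 ^ (k - 1) := by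
      rw [hK, Subgroup.index_ker]
      refine (Subgroup.card_subgroup_dvd_card _).trans (dvd_of_eq ?_)
      rw [IsCyclic.card_mulAut, hR, Nat.card_zpowers, hh.ord, hk, Nat.totient_prime_pow Nat.prime_two
        (by by_contra h0; rw [show k = 0 by omega] at hk; omega)]
      simp
    exact (Nat.dvd_prime_pow Nat.prime_two).1 h1 |>.imp fun i hi => hi.2
  have hPi : ¬ 2 ∣ ((P : Subgroup G).subgroupOf N).index := by
    intro hd
    exact P.not_dvd_index (hd.trans (Subgroup.relIndex_dvd_index_of_le hPN))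
  have htop : K ⊔ (P : Subgroup G).subgroupOf N = ⊤ := by
    rw [← Subgroup.index_eq_one]
    obtain ⟨i, hi⟩ := hKi
    refine Nat.eq_one_of_dvd_coprimes
      (Nat.Coprime.pow_left i (Nat.prime_two.coprime_iff_not_dvd.2 hPi)) ?_
      (Subgroup.index_dvd_of_le le_sup_right)
    rw [← hi]
    exact Subgroup.index_dvd_of_le le_sup_left
  obtain ⟨a, ha, b, hb, hab⟩ := Subgroup.mem_sup_of_normal_left.1
    (htop ▸ Subgroup.mem_top (⟨w, hwR⟩ : N))
  rw [hK, Subgroup.normalizerMonoidHom_ker] at ha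
  have hac : ∀ x ∈ R, (a : G) * x * (a : G)⁻¹ = x := fun x hx => by
    rw [← Subgroup.mem_centralizer_iff.1 (Subgroup.mem_subgroupOf.1 ha) x hx,
      mul_inv_cancel_right]
  have hbP : (b : G) ∈ (P : Subgroup G) := hb
  have hw' : w = (a : G) * b := (congrArg Subtype.val hab).symm
  rw [← hwu, hw', show (a : G) * b * u * ((a : G) * b)⁻¹ =
    (a : G) * ((b : G) * u * (b : G)⁻¹) * (a : G)⁻¹ by group]
  by_cases hn : (b : G) ∈ R
  · left
    rw [(show Commute (b : G) u from Subgroup.mem_centralizer_singleton_iff.1 (hzC hn)).eq,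
      mul_inv_cancel_right, hac u hu]
  · right
    rw [hh.invert hbP hn hu, hac _ (R.inv_mem hu)]

theorem Dih.conj_inv (hh : Dih P σ h) {u : G} (hu : u ∈ Subgroup.zpowers σ) : IsConj u u⁻¹ := by
  obtain ⟨s, hs, hn⟩ := hh.exists_out
  exact isConj_iff.2 ⟨s, hh.invert hs hn hu⟩

end CfsgLib.Blocks.Dihedral
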